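import Cfsg.Agent.S4142
import Cfsg.Agent.S0033
import Cfsg.Agent.Transfer.Tate
import Cfsg.Agent.PGroup.Frattini
import Cfsg.Agent.PSingular.Core
import Cfsg.Agent.Coprime.Generation
import Cfsg.Agent.FGSev.Nilpotent
import Cfsg.Agent.Solvable.ThompsonFPF

/-!
# Camina pairs
-/

set_option autoImplicit false

namespace Cfsg.Agent.Camina

open Subgroup
open scoped commutatorElement

universe u

variable {G : Type u} [Group G]

/-- For every `g` outside `N` the class of `g` is a union of cosets of `N`. -/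
def IsCP (N : Subgroup G) : Prop := ∀ g : G, g ∉ N → ∀ n ∈ N, ∃ x : G, x * g * x⁻¹ = g * n

variable {N : Subgroup G}

theorem IsCP.orderOf_mul (h : IsCP N) {g n : G} (hg : g ∉ N) (hn : n ∈ N) :
    orderOf (g * n) = orderOf g := by
  obtain ⟨x, hx⟩ := h g hg n hn
  rw [← hx]
  exact orderOf_injective (MulAut.conj x).toMonoidHom (MulAut.conj x).injective g

theorem IsCP.eq_one [Finite G] (h : IsCP N) {g n : G} (hg : g ∉ N) (hn : n ∈ N)
    (hc : Commute g n) (hcop : (orderOf g).Coprime (orderOf n)) : n = 1 :=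
  FGSev.eq_one_of_orderOf_mul_eq hc hcop (h.orderOf_mul hg hn)

/-- A Camina pair stays one modulo a normal subgroup. -/
theorem IsCP.map (h : IsCP N) (K : Subgroup G) [K.Normal] :
    IsCP (N.map (QuotientGroup.mk' K)) := by
  intro a ha b hb
  obtain ⟨g, rfl⟩ := QuotientGroup.mk'_surjective K a
  obtain ⟨n, hn, rfl⟩ := hb
  obtain ⟨x, hx⟩ := h g (fun hg => ha ⟨g, hg, rfl⟩) n hn
  exact ⟨QuotientGroup.mk' K x, by rw [← map_inv, ← map_mul, ← map_mul, hx, map_mul]⟩

variable [Finite G] [N.Normal] {p : ℕ} [Fact p.Prime]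

omit [Finite G] in
/-- The centraliser in a Sylow subgroup is no larger than the Sylow subgroup modulo `N`. -/
theorem IsCP.card_centralizer_dvd [Finite G] (h : IsCP N) (P : Sylow p G) {g : G} (hg : g ∉ N) :
    Nat.card ↥((P : Subgroup G) ⊓ centralizer {g}) ∣ N.relIndex (P : Subgroup G) := by
  have h1 : Nat.card (centralizer ({g} : Set G)) ∣ N.index := by
    rw [(S4142.result N).1 h g hg, Subgroup.index_eq_card]
    exact Subgroup.card_subgroup_dvd_card _
  have h2 : N.index = N.relIndex (P : Subgroup G) * ((P : Subgroup G) ⊔ N).index := by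
    rw [← Subgroup.relIndex_sup_right, Subgroup.relIndex_mul_index le_sup_right]
  obtain ⟨c, hc⟩ := (P.2.to_le (inf_le_left : (P : Subgroup G) ⊓ centralizer {g} ≤ P)).exists_card_eq
  refine (Nat.Coprime.dvd_of_dvd_mul_right ?_
    (h2 ▸ (Subgroup.card_dvd_of_le inf_le_right).trans h1))
  rw [hc]
  refine (((Fact.out : p.Prime).coprime_iff_not_dvd).2 fun hd => P.not_dvd_index ?_).pow_left c
  exact hd.trans (Subgroup.index_dvd_of_le le_sup_left)

/-- The `P`-class of an element central modulo `N` is the whole coset. -/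
theorem IsCP.exists_conj (h : IsCP N) (P : Sylow p G) {g : G} (hgP : g ∈ (P : Subgroup G))
    (hg : g ∉ N) (hc : ∀ x ∈ (P : Subgroup G), g⁻¹ * (x * g * x⁻¹) ∈ N) {n : G}
    (hnP : n ∈ (P : Subgroup G)) (hnN : n ∈ N) :
    ∃ x ∈ (P : Subgroup G), x * g * x⁻¹ = g * n := by
  classical
  set Q : Subgroup G := (P : Subgroup G) with hQ
  set C : Subgroup Q := (centralizer {g}).subgroupOf Q with hC
  have hconj : ∀ x y : Q, (x : G) * g * (x : G)⁻¹ = (y : G) * g * (y : G)⁻¹ ↔ x⁻¹ * y ∈ C := by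
    intro x y
    rw [hC, Subgroup.mem_subgroupOf, mem_centralizer_singleton_iff, Subgroup.coe_mul,
      Subgroup.coe_inv]
    constructor
    · intro e
      calc (x : G)⁻¹ * y * g = (x : G)⁻¹ * ((y : G) * g * (y : G)⁻¹) * y := by group
        _ = g * ((x : G)⁻¹ * y) := by rw [← e]; group
    · intro e
      calc (x : G) * g * (x : G)⁻¹ = x * (g * ((x : G)⁻¹ * y)) * (y : G)⁻¹ := by group
        _ = (y : G) * g * (y : G)⁻¹ := by rw [← e]; group
  let φ : Q ⧸ C → N.subgroupOf Q := fun q =>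
    ⟨⟨g⁻¹ * ((q.out : G) * g * (q.out : G)⁻¹),
      mul_mem (inv_mem hgP) (mul_mem (mul_mem q.out.2 hgP) (inv_mem q.out.2))⟩, hc _ q.out.2⟩
  have hφ : Function.Injective φ := by
    intro a b hab
    have h1 : g⁻¹ * ((a.out : G) * g * (a.out : G)⁻¹) = g⁻¹ * ((b.out : G) * g * (b.out : G)⁻¹) :=
      congrArg (fun z : N.subgroupOf Q => ((z : Q) : G)) hab
    rw [← a.out_eq', ← b.out_eq', QuotientGroup.eq]
    exact (hconj _ _).1 (mul_left_cancel h1)
  have hle : Nat.card (N.subgroupOf Q) ≤ Nat.card (Q ⧸ C) := by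
    have h1 : Nat.card C ∣ (N.subgroupOf Q).index := by
      have := h.card_centralizer_dvd P hg
      rw [← Nat.card_congr (Subgroup.subgroupOfEquivOfLe (inf_le_left : Q ⊓ centralizer {g} ≤ Q)).toEquiv,
        Subgroup.inf_subgroupOf_left] at this
      exact this
    have h2 := C.card_mul_index
    have h3 := (N.subgroupOf Q).card_mul_index
    have h4 := Nat.le_of_dvd (Nat.pos_of_ne_zero Subgroup.index_ne_zero_of_finite) h1
    have h5 : 0 < Nat.card C := Nat.card_pos
    rw [← Subgroup.index_eq_card]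
    nlinarith
  obtain ⟨q, hq⟩ := ((Nat.bijective_iff_injective_and_card φ).2
    ⟨hφ, le_antisymm (Nat.card_le_card_of_injective φ hφ) hle⟩).surjective
      ⟨⟨n, hnP⟩, hnN⟩
  refine ⟨(q.out : G), q.out.2, ?_⟩
  have h1 : g⁻¹ * ((q.out : G) * g * (q.out : G)⁻¹) = n :=
    congrArg (fun z : N.subgroupOf Q => ((z : Q) : G)) hq
  rw [← h1, mul_inv_cancel_left]

/-- An element of order `p` modulo `N`, central in a Sylow subgroup modulo `N`. -/
theorem exists_central_element (N : Subgroup G) [N.Normal] (hp : p ∣ N.index) (P : Sylow p G) :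
    ∃ g ∈ (P : Subgroup G), g ∉ N ∧ g ^ p ∈ N ∧
      ∀ x ∈ (P : Subgroup G), g⁻¹ * (x * g * x⁻¹) ∈ N := by
  classical
  set Q := (P : Subgroup G).map (QuotientGroup.mk' N) with hQ
  have hQp : IsPGroup p Q := P.2.map _
  have hQne : Q ≠ ⊥ := by
    intro h
    rw [hQ, Subgroup.map_eq_bot_iff, QuotientGroup.ker_mk'] at h
    exact P.not_dvd_index (hp.trans (Subgroup.index_dvd_of_le h))
  haveI : Nontrivial Q := (Subgroup.nontrivial_iff_ne_bot _).2 hQne
  haveI := hQp.center_nontrivial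
  obtain ⟨a, ha⟩ := exists_prime_orderOf_dvd_card' (G := center Q) p (by
    rcases (hQp.to_subgroup (center Q)).card_eq_or_dvd with h | h
    · exact absurd h Finite.one_lt_card.ne'
    · exact h)
  obtain ⟨g, hgP, hg⟩ := (a : Q).2
  refine ⟨g, hgP, fun h => ?_, ?_, fun x hx => ?_⟩
  · have : a = 1 := Subtype.ext (Subtype.ext (hg.symm.trans ((QuotientGroup.eq_one_iff g).2 h)))
    rw [this, orderOf_one] at ha
    exact (Fact.out : p.Prime).ne_one ha.symm
  · rw [← QuotientGroup.eq_one_iff, QuotientGroup.mk_pow]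
    have h1 := pow_orderOf_eq_one a
    rw [ha] at h1
    have h2 := congrArg (fun z : center Q => ((z : Q) : G ⧸ N)) h1
    simp only [Subgroup.coe_pow, Subgroup.coe_one, ← hg] at h2
    exact h2
  · rw [← QuotientGroup.eq_one_iff]
    have h1 := congrArg Subtype.val (Subgroup.mem_center_iff.1 a.2 ⟨QuotientGroup.mk' N x, ⟨x, hx, rfl⟩⟩)
    simp only [Subgroup.coe_mul, ← hg, QuotientGroup.mk'_apply] at h1
    simp only [QuotientGroup.mk_mul, QuotientGroup.mk_inv]
    rw [h1, mul_inv_cancel_right, inv_mul_cancel]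

/-- For `p` dividing the index, `N` has a normal `p`-complement. -/
theorem IsCP.hasNormalPComplement (h : IsCP N) (hp : p ∣ N.index) :
    Cfsg.HasNormalPComplement p N := by
  obtain ⟨P⟩ : Nonempty (Sylow p G) := inferInstance
  obtain ⟨g, hgP, hg, -, hc⟩ := exists_central_element N hp P
  refine Transfer.hasNormalPComplement_of_inf_le_frattini P N ?_
  intro n hn
  obtain ⟨hnN, hnP⟩ := Subgroup.mem_inf.1 hn
  obtain ⟨x, hx, hxn⟩ := h.exists_conj P hgP hg hc hnP hnN
  refine ⟨⟨n, hnP⟩, PGroup.commutator_le_frattini P.2 ?_, rfl⟩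
  have e : (⟨n, hnP⟩ : (P : Subgroup G)) = ⁅(⟨g, hgP⟩ : (P : Subgroup G))⁻¹, ⟨x, hx⟩⁆ := by
    apply Subtype.ext
    show n = g⁻¹ * x * g⁻¹⁻¹ * x⁻¹
    rw [inv_inv, show g⁻¹ * x * g * x⁻¹ = g⁻¹ * (x * g * x⁻¹) by group, hxn, inv_mul_cancel_left]
  rw [e]
  exact Subgroup.commutator_mem_commutator (Subgroup.mem_top _) (Subgroup.mem_top _)

/-- A second element of order `p` modulo `N`, when `p` divides both orders. -/
theorem IsCP.exists_independent (h : IsCP N) (hN : p ∣ Nat.card N) (P : Sylow p G) {g : G}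
    (hgP : g ∈ (P : Subgroup G)) (hg : g ∉ N) (hgp : g ^ p ∈ N)
    (hc : ∀ x ∈ (P : Subgroup G), g⁻¹ * (x * g * x⁻¹) ∈ N) :
    ∃ w ∈ (P : Subgroup G), w ∉ N ∧ w ^ p ∈ N ∧ ∀ j : ℕ, (g ^ j)⁻¹ * w ∉ N := by
  classical
  by_contra hcon
  push Not at hcon
  set Q : Subgroup G := (P : Subgroup G) with hQ
  set D : Subgroup Q := N.subgroupOf Q with hD
  set C : Subgroup Q := (centralizer {g}).subgroupOf Q with hC
  have htop : C ⊔ D = ⊤ := by
    refine PSingular.eq_top_of_meets_all _ fun x => ?_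
    by_cases hx : x ∈ D
    · exact ⟨1, by simpa using mem_sup_right hx⟩
    -- a power of `x` has order `p` modulo `N`
    have hxN : (x : G) ∉ N := fun hh => hx hh
    obtain ⟨e, he⟩ := Element.orderOf_eq_pow_of_mem_isPGroup P.2 x.2
    have hex : ∃ i, (x : G) ^ p ^ i ∈ N := ⟨e, by rw [← he, pow_orderOf_eq_one]; exact one_mem N⟩
    set i := Nat.find hex with hi
    have hi0 : i ≠ 0 := fun hz => hxN (by have := Nat.find_spec hex; rwa [← hi, hz, pow_zero, pow_one] at this)
    set w := (x : G) ^ p ^ (i - 1) with hw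
    have hwN : w ∉ N := Nat.find_min hex (by omega)
    have hwp : w ^ p ∈ N := by
      rw [hw, ← pow_mul, ← pow_succ, Nat.sub_add_cancel (by omega : 1 ≤ i)]
      exact Nat.find_spec hex
    obtain ⟨j, hj⟩ := hcon w (pow_mem x.2 _) hwN hwp
    have hgj : g ^ j ∉ N := fun hh => hwN (by simpa using mul_mem hh hj)
    have hjp : j.Coprime p := by
      refine ((Fact.out : p.Prime).coprime_iff_not_dvd.2 fun hd => hgj ?_).symm
      obtain ⟨t, rfl⟩ := hd
      rw [pow_mul]; exact pow_mem hgp t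
    obtain ⟨u, hu⟩ := Nat.exists_mul_mod_eq_one_of_coprime hjp (Fact.out : p.Prime).one_lt
    have hn0 : g⁻¹ * w ^ u ∈ N := by
      rw [← QuotientGroup.eq_one_iff]
      have h1 : ((g : G) : G ⧸ N) ^ j = (w : G ⧸ N) := by
        rw [← QuotientGroup.mk_pow, QuotientGroup.eq]; exact hj
      have h2 : ((g : G) : G ⧸ N) ^ p = 1 := by
        rw [← QuotientGroup.mk_pow, QuotientGroup.eq_one_iff]; exact hgp
      rw [QuotientGroup.mk_mul, QuotientGroup.mk_inv, QuotientGroup.mk_pow, ← h1, ← pow_mul, pow_eq_pow_mod _ h2, hu.2, pow_one, inv_mul_cancel]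
    obtain ⟨k, hkP, hk⟩ := h.exists_conj P hgP hg hc
      (mul_mem (inv_mem hgP) (pow_mem (pow_mem x.2 _) u)) hn0
    rw [mul_inv_cancel_left] at hk
    refine ⟨⟨k, hkP⟩, mem_sup_left ?_⟩
    rw [hC, Subgroup.mem_subgroupOf, mem_centralizer_singleton_iff]
    show k⁻¹ * x * k * g = g * (k⁻¹ * x * k)
    have hcomm : w ^ u * x = x * w ^ u := by
      rw [hw, ← pow_mul, (Commute.pow_self (x : G) _).eq]
    rw [show g = k⁻¹ * w ^ u * k by rw [← hk]; group]
    calc k⁻¹ * x * k * (k⁻¹ * w ^ u * k) = k⁻¹ * (x * w ^ u) * k := by group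
      _ = k⁻¹ * w ^ u * k * (k⁻¹ * x * k) := by rw [← hcomm]; group
  -- but the centraliser is small
  have hDne : D ≠ ⊥ := by
    intro hb
    obtain ⟨y, hy⟩ := exists_prime_orderOf_dvd_card' (G := N) p hN
    obtain ⟨P', hP'⟩ := Element.exists_sylow_mem (p := p) (k := 1) (g := (y : G)) (by
      rw [Subgroup.orderOf_coe, hy, pow_one])
    obtain ⟨c, hc'⟩ := MulAction.exists_smul_eq G P' P
    have hm : c * y * c⁻¹ ∈ Q := by
      rw [hQ, ← hc']
      exact (Subgroup.mem_smul_pointwise_iff_exists _ _ _).2 ⟨y, hP', rfl⟩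
    have : (⟨c * y * c⁻¹, hm⟩ : Q) ∈ D := (inferInstance : N.Normal).conj_mem _ y.2 c
    rw [hb, Subgroup.mem_bot, Subtype.ext_iff] at this
    rw [← Subgroup.orderOf_coe, conj_eq_one_iff.1 this, orderOf_one] at hy
    exact (Fact.out : p.Prime).ne_one hy.symm
  have hQp : IsPGroup p Q := P.2
  haveI : D.Normal := (inferInstance : N.Normal).subgroupOf Q
  obtain ⟨z, hzD, hzc, hz⟩ := Transfer.exists_central_orderOf_eq_prime hQp D hDne
  have hzC : z ∈ C := by
    rw [hC, Subgroup.mem_subgroupOf, mem_centralizer_singleton_iff]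
    exact (congrArg Subtype.val (Subgroup.mem_center_iff.1 hzc ⟨g, hgP⟩)).symm
  have h1 : Nat.card C ≤ D.index := by
    refine Nat.le_of_dvd (Nat.pos_of_ne_zero Subgroup.index_ne_zero_of_finite) ?_
    have := h.card_centralizer_dvd P hg
    rwa [← Nat.card_congr (Subgroup.subgroupOfEquivOfLe (inf_le_left : Q ⊓ centralizer {g} ≤ Q)).toEquiv,
      Subgroup.inf_subgroupOf_left] at this
  have h2 : D.index = D.relIndex C := by
    rw [← Subgroup.relIndex_sup_right, htop, Subgroup.relIndex_top_right]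
  have h3 : 1 < Nat.card (D.subgroupOf C) := Subgroup.one_lt_card_iff_ne_bot _ |>.2 fun hb => by
    have : (⟨z, hzC⟩ : C) ∈ D.subgroupOf C := hzD
    rw [hb, Subgroup.mem_bot, Subtype.ext_iff] at this
    rw [show z = 1 from this, orderOf_one] at hz
    exact (Fact.out : p.Prime).ne_one hz.symm
  have h4 := (D.subgroupOf C).card_mul_index
  rw [show (D.subgroupOf C).index = D.relIndex C from rfl, ← h2] at h4
  have h5 : 0 < D.index := Nat.pos_of_ne_zero Subgroup.index_ne_zero_of_finite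
  nlinarith

/-- A prime dividing the index but not the order of `N` forces nilpotence. -/
theorem IsCP.isNilpotent (h : IsCP N) (hp : p ∣ N.index) (hN : ¬ p ∣ Nat.card N) :
    Group.IsNilpotent N := by
  obtain ⟨g, hg⟩ := exists_prime_orderOf_dvd_card' (G := G) p
    (hp.trans (Dvd.intro_left _ N.card_mul_index))
  by_cases hN1 : Subsingleton N
  · infer_instance
  have hgN : g ∉ N := fun h' => hN (by
    have := orderOf_dvd_natCard (⟨g, h'⟩ : N)
    rwa [Subgroup.orderOf_mk, hg] at this)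
  set φ : N ≃* N := (MulAut.conjNormal g : MulAut N) with hφ
  have hfix : ∀ n : N, φ n = n → n = 1 := by
    intro n hn
    apply Subtype.ext
    have hc : Commute g n := mul_inv_eq_iff_eq_mul.1
      ((MulAut.conjNormal_apply g n).symm.trans (congrArg Subtype.val hn))
    refine h.eq_one hgN n.2 hc ?_
    rw [hg, (Fact.out : p.Prime).coprime_iff_not_dvd, Subgroup.orderOf_coe]
    exact fun hd => hN (hd.trans (orderOf_dvd_natCard n))
  refine S0033.result φ hfix p Fact.out (orderOf_eq_prime ?_ ?_)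
  · rw [hφ, ← map_pow, ← hg, pow_orderOf_eq_one, map_one]
  · intro he
    apply hN1
    exact ⟨fun a b => by rw [hfix a (by rw [he]; rfl), hfix b (by rw [he]; rfl)]⟩

/-- No prime divides both orders when `N` has a normal complement for another prime divisor. -/
theorem IsCP.not_common (h : IsCP N) {r : ℕ} [Fact r.Prime] (hp : p ∣ N.index)
    (hN : p ∣ Nat.card N) (hr : r ∣ Nat.card N) (hrp : r ≠ p)
    (hK : Cfsg.HasNormalPComplement r N) : False := by
  classical
  obtain ⟨R, K, hKn, hKc⟩ := hK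
  have hpR : (r).Coprime p := (Nat.coprime_primes Fact.out Fact.out).2 hrp
  obtain ⟨a, ha⟩ := R.2.exists_card_eq
  have hidx : K.index = r ^ a := by rw [hKc.symm.index_eq_card, ha]
  have hKr : ¬ r ∣ Nat.card K := by
    rw [← hKc.index_eq_card]; exact R.not_dvd_index
  have hmemK : ∀ n : N, n ∈ K ↔ (orderOf n).Coprime r := by
    intro n
    constructor
    · intro hn
      refine ((Fact.out : r.Prime).coprime_iff_not_dvd.2 fun hd => hKr ?_).symm
      have := orderOf_dvd_natCard (⟨n, hn⟩ : K)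
      rw [Subgroup.orderOf_mk] at this
      exact hd.trans this
    · intro hn
      haveI := hKn
      rw [← QuotientGroup.eq_one_iff, ← orderOf_eq_one_iff]
      refine Nat.eq_one_of_dvd_coprimes (hn.pow_right a)
        (orderOf_map_dvd (QuotientGroup.mk' K) n) ?_
      rw [← hidx, Subgroup.index_eq_card]
      exact orderOf_dvd_natCard _
  set K' := K.map N.subtype with hK'
  haveI : K'.Normal := by
    refine ⟨fun y hy g => ?_⟩
    obtain ⟨n, hn, rfl⟩ := hy
    refine ⟨⟨g * n * g⁻¹, (inferInstance : N.Normal).conj_mem _ n.2 g⟩, (hmemK _).2 ?_, rfl⟩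
    have h1 := (hmemK n).1 hn
    rw [Subgroup.orderOf_mk]
    rw [← Subgroup.orderOf_coe] at h1
    rwa [show g * (n : G) * g⁻¹ = (MulAut.conj g).toMonoidHom (n : G) from rfl,
      orderOf_injective _ (MulAut.conj g).injective]
  set π := QuotientGroup.mk' K' with hπ
  set X := N.map π with hX
  haveI : X.Normal := Subgroup.Normal.map inferInstance _ (QuotientGroup.mk'_surjective K')
  have hcp : IsCP X := h.map K'
  have hXne : X ≠ ⊥ := by
    rw [hX, Ne, Subgroup.map_eq_bot_iff, hπ, QuotientGroup.ker_mk']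
    intro hle
    obtain ⟨y, hy⟩ := exists_prime_orderOf_dvd_card' (G := N) r hr
    obtain ⟨y', hy', he⟩ := hle y.2
    rw [show y' = y from Subtype.ext he] at hy'
    have := (hmemK y).1 hy'
    rw [hy, Nat.coprime_self] at this
    exact (Fact.out : r.Prime).ne_one this
  have hXr : IsPGroup r X := by
    rintro ⟨_, y, hy, rfl⟩
    haveI := hKn
    refine ⟨a, Subtype.ext ?_⟩
    show π y ^ r ^ a = 1
    rw [← map_pow, hπ, QuotientGroup.mk'_apply, QuotientGroup.eq_one_iff]
    exact ⟨⟨y, hy⟩ ^ r ^ a, hidx ▸ Subgroup.pow_index_mem K _, rfl⟩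
  obtain ⟨P⟩ : Nonempty (Sylow p G) := inferInstance
  obtain ⟨g, hgP, hg, hgp, hc⟩ := exists_central_element N hp P
  obtain ⟨w, hwP, hwN, hwp, hind⟩ := h.exists_independent hN P hgP hg hgp hc
  have hPK : ∀ y ∈ (P : Subgroup G), y ∈ N → π y = 1 := by
    intro y hy hyN
    rw [hπ, QuotientGroup.mk'_apply, QuotientGroup.eq_one_iff]
    refine ⟨⟨y, hyN⟩, (hmemK _).2 ?_, rfl⟩
    obtain ⟨k, hk⟩ := Element.orderOf_eq_pow_of_mem_isPGroup P.2 hy
    rw [Subgroup.orderOf_mk, hk]
    exact hpR.symm.pow_left k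
  set Qb := (P : Subgroup G).map π with hQb
  have hout : ∀ y ∈ Qb, y ≠ 1 → y ∉ X := by
    rintro _ ⟨y, hy, rfl⟩ hy1 ⟨n, hn, hne⟩
    apply hy1
    refine hPK y hy ?_
    have h1 : n⁻¹ * y ∈ K' := QuotientGroup.eq.1 hne
    have h2 : n⁻¹ * y ∈ N := map_subtype_le _ h1
    simpa using mul_mem hn h2
  have hgw : Commute (π g) (π w) := by
    have h1 := hPK (g⁻¹ * (w * g * w⁻¹))
      (mul_mem (inv_mem hgP) (mul_mem (mul_mem hwP hgP) (inv_mem hwP))) (hc w hwP)
    rw [map_mul, map_inv, inv_mul_eq_one, map_mul, map_mul, map_inv, eq_mul_inv_iff_mul_eq] at h1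
    exact h1
  set A := closure ({π g, π w} : Set (G ⧸ K')) with hA
  haveI : IsMulCommutative A := by
    refine Subgroup.isMulCommutative_closure ?_
    rintro x (rfl | rfl) y (rfl | rfl)
    · rfl
    · exact hgw.eq
    · exact hgw.eq.symm
    · rfl
  have hAQ : A ≤ Qb := by
    rw [hA, Subgroup.closure_le]
    rintro x (rfl | rfl)
    · exact ⟨g, hgP, rfl⟩
    · exact ⟨w, hwP, rfl⟩
  have hAexp : ∀ y ∈ A, y ^ p = 1 := by
    intro y hy
    induction hy using Subgroup.closure_induction with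
    | mem y hy =>
      rcases hy with rfl | rfl <;> rw [← map_pow]
      · exact hPK _ (pow_mem hgP p) hgp
      · exact hPK _ (pow_mem hwP p) hwp
    | one => exact one_pow p
    | mul y z hy hz ihy ihz =>
      have hcz : Commute y z := congrArg Subtype.val (mul_comm' (⟨y, hy⟩ : A) ⟨z, hz⟩)
      rw [hcz.mul_pow, ihy, ihz, one_mul]
    | inv y _ ih => rw [inv_pow, ih, inv_one]
  have hAnc : ¬ IsCyclic A := by
    intro hcyc
    obtain ⟨c, hc'⟩ := hcyc.exists_generator
    have hpi : π g ∈ A := subset_closure (Or.inl rfl)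
    have hpw : π w ∈ A := subset_closure (Or.inr rfl)
    have hcard : Nat.card A ∣ p := by
      rw [← orderOf_eq_card_of_forall_mem_zpowers hc', ← Subgroup.orderOf_coe]
      exact orderOf_dvd_of_pow_eq_one (hAexp _ c.2)
    have hne : (⟨π g, hpi⟩ : A) ≠ 1 := by
      intro e
      apply hg
      have h1 : π g = 1 := congrArg Subtype.val e
      rw [hπ, QuotientGroup.mk'_apply, QuotientGroup.eq_one_iff] at h1
      exact map_subtype_le _ h1
    have hcard' : Nat.card A = p := by
      rcases (Nat.dvd_prime Fact.out).1 hcard with e | e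
      · haveI := (Nat.card_eq_one_iff_unique.1 e).1
        exact absurd (Subsingleton.elim _ _) hne
      · exact e
    obtain ⟨j, hj⟩ : ∃ j : ℕ, (⟨π g, hpi⟩ : A) ^ j = ⟨π w, hpw⟩ := by
      have := zpowers_eq_top_of_prime_card hcard' hne
      exact (mem_powers_iff_mem_zpowers.2 (this ▸ mem_top (⟨π w, hpw⟩ : A)) :)
    have h1 : π (g ^ j) = π w := by rw [map_pow]; exact congrArg Subtype.val hj
    exact hind j (map_subtype_le _ (QuotientGroup.eq.1 h1))
  apply hXne
  have hcop : (Nat.card A).Coprime (Nat.card X) := by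
    obtain ⟨i, hi⟩ := ((P.2.map π).to_le hAQ).exists_card_eq
    obtain ⟨k, hk⟩ := hXr.exists_card_eq
    rw [hi, hk]; exact (hpR.symm.pow_left i).pow_right k
  rw [← Coprime.iSup_centralizer_eq hAnc (by rw [normalizer_eq_top]; exact le_top) hcop, eq_bot_iff]
  refine iSup₂_le fun y hy => ?_
  rintro n ⟨hn, hny⟩
  rw [Subgroup.mem_bot]
  refine hcp.eq_one (hout y (hAQ hy.1) hy.2) hn (mem_centralizer_singleton_iff.1 hny).symm ?_
  exact (hcop.coprime_dvd_left (Subgroup.orderOf_dvd_natCard A hy.1)).coprime_dvd_right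
    (Subgroup.orderOf_dvd_natCard X hn)

omit [Fact p.Prime] in
/-- Camina's theorem. -/
theorem IsCP.trichotomy (h : IsCP N) (hN1 : N ≠ ⊥) (hN2 : N ≠ ⊤) :
    (∀ x ∈ N, x ≠ 1 → Subgroup.centralizer ({x} : Set G) ≤ N) ∨ IsPrimePow (Nat.card N) ∨
      IsPrimePow N.index := by
  classical
  by_cases hI : IsPrimePow N.index
  · exact Or.inr (Or.inr hI)
  by_cases hP : IsPrimePow (Nat.card N)
  · exact Or.inr (Or.inl hP)
  left
  have two : ∀ (m : ℕ), 1 < m → ¬ IsPrimePow m → ∀ q : ℕ, ∃ r, r.Prime ∧ r ∣ m ∧ r ≠ q := by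
    intro m hm hnp q
    by_contra hcon
    push Not at hcon
    apply hnp
    obtain ⟨r, hr, hrm⟩ := Nat.exists_prime_and_dvd hm.ne'
    have hq := hcon r hr hrm
    subst hq
    rw [Nat.eq_prime_pow_of_unique_prime_dvd (by omega : m ≠ 0) (fun {d} hd hdm => hcon d hd hdm)]
    refine hr.isPrimePow.pow fun e => ?_
    rw [Nat.eq_prime_pow_of_unique_prime_dvd (by omega : m ≠ 0) (fun {d} hd hdm => hcon d hd hdm), e,
      pow_zero] at hm
    omega
  have hi1 : 1 < N.index := by
    have := N.index_ne_zero_of_finite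
    have : N.index ≠ 1 := fun e => hN2 (Subgroup.index_eq_one.1 e)
    omega
  have hn1 : 1 < Nat.card N := (Subgroup.one_lt_card_iff_ne_bot N).2 hN1
  have hnil : Group.IsNilpotent N := by
    obtain ⟨q, hq, hqi, -⟩ := two _ hi1 hI 1
    haveI := Fact.mk hq
    by_cases hqN : q ∣ Nat.card N
    · obtain ⟨r, hr, hri, hrq⟩ := two _ hi1 hI q
      haveI := Fact.mk hr
      by_cases hrN : r ∣ Nat.card N
      · exact (h.not_common hqi hqN hrN hrq (h.hasNormalPComplement hri)).elim
      · exact h.isNilpotent hri hrN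
    · exact h.isNilpotent hqi hqN
  have hcop : (Nat.card N).Coprime N.index := by
    refine Nat.coprime_of_dvd fun q hq hqN hqi => ?_
    haveI := Fact.mk hq
    obtain ⟨r, hr, hrN, hrq⟩ := two _ hn1 hP q
    haveI := Fact.mk hr
    exact h.not_common hqi hqN hrN hrq (Solvable.hasNormalPComplement_of_isNilpotent N)
  intro x hxN hx1 c hc
  by_contra hcN
  apply hx1
  rw [mem_centralizer_singleton_iff] at hc
  refine h.eq_one (g := c ^ Nat.card N) ?_ hxN (Commute.pow_left hc _) ?_
  · intro hpow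
    apply hcN
    rw [← QuotientGroup.eq_one_iff, ← orderOf_eq_one_iff]
    refine Nat.eq_one_of_dvd_coprimes hcop ?_ ?_
    · rw [orderOf_dvd_iff_pow_eq_one, ← QuotientGroup.mk_pow, QuotientGroup.eq_one_iff]; exact hpow
    · rw [Subgroup.index_eq_card]; exact orderOf_dvd_natCard _
  · refine Nat.Coprime.coprime_dvd_right (Subgroup.orderOf_dvd_natCard N hxN)
      (Nat.Coprime.coprime_dvd_left ?_ hcop.symm)
    rw [orderOf_dvd_iff_pow_eq_one, ← pow_mul, N.card_mul_index]
    exact pow_card_eq_one'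

end Cfsg.Agent.Camina
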