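import Cfsg.Agent.S4237
import Cfsg.Agent.S0519
import Cfsg.Agent.FGSev.MaxClass
import Cfsg.Agent.TwoGroups.UniqueInvolution
import Cfsg.Agent.TwoGroups.QuasiDihedral

/-!
# Cyclic subgroups of 2-groups (Miller), and Kulakoff's theorem
-/

set_option autoImplicit false

namespace Cfsg.Agent.KulakoffTwo

open Subgroup

theorem even_card_filter_of_involution {α : Type*} [DecidableEq α] (s : Finset α) (f : α → α)
    (hf : ∀ a ∈ s, f a ∈ s) (hff : ∀ a ∈ s, f (f a) = a) :
    (Even s.card ↔ Even (s.filter fun a => f a = a).card) := by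
  have hfree : Even (s.filter fun a => ¬ f a = a).card := by
    rw [← ZMod.natCast_eq_zero_iff_even, Finset.card_eq_sum_ones, Nat.cast_sum]
    refine Finset.sum_involution (fun a _ => f a) ?_ ?_ ?_ ?_
    · intro a _
      exact CharTwo.add_self_eq_zero _
    · intro a ha _
      exact (Finset.mem_filter.1 ha).2
    · intro a ha
      obtain ⟨h1, h2⟩ := Finset.mem_filter.1 ha
      exact Finset.mem_filter.2 ⟨hf a h1, fun h => h2 (by rw [hff a h1] at h; exact h.symm)⟩
    · intro a ha
      exact hff a (Finset.mem_filter.1 ha).1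
  have h := Finset.card_filter_add_card_filter_not (s := s) (fun a => f a = a)
  rw [← h, Nat.even_add]
  exact ⟨fun hh => hh.2 hfree, fun hh => iff_of_true hh hfree⟩

variable {G : Type*} [Group G]

theorem centralizer_card_dihedral {n : ℕ} [NeZero n] :
    Nat.card (centralizer ({DihedralGroup.sr (0 : ZMod n)} : Set (DihedralGroup n))) ≤ 4 := by
  have huniq : ∀ i j : ZMod n, i + i = 0 → j + j = 0 → i ≠ 0 → j ≠ 0 → i = j := by
    intro i j hi hj hi0 hj0
    have key : ∀ i : ZMod n, i + i = 0 → i ≠ 0 → i.val + i.val = n := by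
      intro i hi h0
      have h1 : n ∣ i.val + i.val := by
        rw [← ZMod.natCast_eq_zero_iff]; push_cast; rw [ZMod.natCast_zmod_val, hi]
      obtain ⟨c, hc⟩ := h1
      have hlt := ZMod.val_lt i
      have hpos : 0 < i.val := Nat.pos_of_ne_zero fun h => h0 ((ZMod.val_eq_zero i).1 h)
      rcases c with _ | _ | c
      · omega
      · omega
      · exfalso; nlinarith
    exact ZMod.val_injective n (by have := key i hi hi0; have := key j hj hj0; omega)
  let φ : centralizer ({DihedralGroup.sr (0 : ZMod n)} : Set (DihedralGroup n)) → Bool × Bool :=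
    fun g => match g.1 with
      | .r i => (true, decide (i = 0))
      | .sr i => (false, decide (i = 0))
  refine le_trans (Nat.card_le_card_of_injective φ ?_) (by simp)
  rintro ⟨g, hg⟩ ⟨g', hg'⟩ h
  rw [mem_centralizer_singleton_iff] at hg hg'
  have two : ∀ i : ZMod n, i = -i → i + i = 0 := fun i hi => by
    nth_rewrite 1 [hi]; exact neg_add_cancel i
  have two' : ∀ i : ZMod n, -i = i → i + i = 0 := fun i hi => two i hi.symm
  rcases g with i | i <;> rcases g' with j | j <;> simp [φ] at h hg hg'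
  all_goals apply Subtype.ext
  all_goals simp
  all_goals
    by_cases h0 : i = 0
    · rw [h0, h.1 h0]
    · refine huniq i j ?_ ?_ h0 fun hj => h0 (h.2 hj)
      · first | exact two i hg | exact two' i hg | linear_combination hg | linear_combination -hg
      · first | exact two j hg' | exact two' j hg' | linear_combination hg' | linear_combination -hg'

theorem centralizer_card_quaternion {n : ℕ} [NeZero n] :
    Nat.card (centralizer ({QuaternionGroup.xa (0 : ZMod (2 * n))} : Set (QuaternionGroup n))) ≤ 4 := by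
  have huniq : ∀ i j : ZMod (2 * n), i + i = 0 → j + j = 0 → i ≠ 0 → j ≠ 0 → i = j := by
    intro i j hi hj hi0 hj0
    have key : ∀ i : ZMod (2 * n), i + i = 0 → i ≠ 0 → i.val + i.val = 2 * n := by
      intro i hi h0
      have h1 : 2 * n ∣ i.val + i.val := by
        rw [← ZMod.natCast_eq_zero_iff]; push_cast; rw [ZMod.natCast_zmod_val, hi]
      obtain ⟨c, hc⟩ := h1
      have hlt := ZMod.val_lt i
      have hpos : 0 < i.val := Nat.pos_of_ne_zero fun h => h0 ((ZMod.val_eq_zero i).1 h)
      rcases c with _ | _ | c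
      · omega
      · omega
      · exfalso; nlinarith
    exact ZMod.val_injective _ (by have := key i hi hi0; have := key j hj hj0; omega)
  let φ : centralizer ({QuaternionGroup.xa (0 : ZMod (2 * n))} : Set (QuaternionGroup n)) → Bool × Bool :=
    fun g => match g.1 with
      | .a i => (true, decide (i = 0))
      | .xa i => (false, decide (i = 0))
  refine le_trans (Nat.card_le_card_of_injective φ ?_) (by simp)
  rintro ⟨g, hg⟩ ⟨g', hg'⟩ h
  rw [mem_centralizer_singleton_iff] at hg hg'
  have two : ∀ i : ZMod (2 * n), i = -i → i + i = 0 := fun i hi => by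
    nth_rewrite 1 [hi]; exact neg_add_cancel i
  have two' : ∀ i : ZMod (2 * n), -i = i → i + i = 0 := fun i hi => two i hi.symm
  rcases g with i | i <;> rcases g' with j | j <;> simp [φ] at h hg hg'
  all_goals apply Subtype.ext
  all_goals simp
  all_goals
    by_cases h0 : i = 0
    · rw [h0, h.1 h0]
    · refine huniq i j ?_ ?_ h0 fun hj => h0 (h.2 hj)
      · first | exact two i hg | exact two' i hg | linear_combination hg | linear_combination -hg
      · first | exact two j hg' | exact two' j hg' | linear_combination hg' | linear_combination -hg'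

theorem class_eq_of_equiv {X : Type*} [Group X] [Finite G] {m : ℕ} (hm : 2 ≤ m)
    (hG : Nat.card G = 2 ^ m) (e : G ≃* X) {x : X}
    (hx : Nat.card (centralizer ({x} : Set X)) ≤ 4) : Group.nilpotencyClass G = m - 1 := by
  haveI : Fact (Nat.Prime 2) := ⟨Nat.prime_two⟩
  haveI : Finite X := Finite.of_equiv G e.toEquiv
  refine FGSev.nilpotencyClass_of_small_centralizer m G hG hm (e.symm x) ?_
  refine le_trans ?_ (by simpa using hx)
  refine Nat.card_le_card_of_injective
    (fun g => (⟨e g.1, mem_centralizer_singleton_iff.2 (by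
      have := congrArg e (mem_centralizer_singleton_iff.1 g.2)
      simpa using this)⟩ : centralizer ({x} : Set X))) fun a b h => ?_
  exact Subtype.ext (e.injective (congrArg Subtype.val h))

/-- A noncyclic 2-group that is not of maximal class has a normal four-group. -/
theorem exists_normal_four [Finite G] {m : ℕ} (hG : Nat.card G = 2 ^ m) (hnc : ¬ IsCyclic G)
    (hcl : Group.nilpotencyClass G ≠ m - 1) :
    ∃ E : Subgroup G, E.Normal ∧ Nat.card E = 4 ∧ ∀ u ∈ E, u * u = 1 := by
  classical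
  haveI : Fact (Nat.Prime 2) := ⟨Nat.prime_two⟩
  have hP : IsPGroup 2 G := IsPGroup.of_card hG
  have hm2 : 2 ≤ m := by
    by_contra h
    interval_cases m
    · haveI : Subsingleton G := (Nat.card_eq_one_iff_unique.1 (by simpa using hG)).1
      exact hnc isCyclic_of_subsingleton
    · exact hnc (isCyclic_of_prime_card (p := 2) (by simpa using hG))
  -- a normal noncyclic abelian subgroup
  obtain ⟨A, hAn, hAc, hA⟩ : ∃ A : Subgroup G, A.Normal ∧ IsMulCommutative A ∧ ¬ IsCyclic A := by
    by_contra hno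
    push Not at hno
    by_cases huniq : ∀ x y : G, orderOf x = 2 → orderOf y = 2 → x = y
    · rcases TwoGroups.cyclic_or_quaternion_of_unique_involution hP huniq with h | ⟨k, hk, -, ⟨e⟩⟩
      · exact hnc h
      · exact hcl (class_eq_of_equiv hm2 hG e (centralizer_card_quaternion))
    push Not at huniq
    obtain ⟨x, y, hx, hy, hxy⟩ := huniq
    have hnt : (⊤ : Subgroup G) ≠ ⊥ := fun h => by
      have : x ∈ (⊥ : Subgroup G) := h ▸ mem_top x
      rw [mem_bot.1 this, orderOf_one] at hx
      omega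
    obtain ⟨z, -, hzc, hz⟩ := TwoGroups.exists_central_involution_of_normal hP ⊤ hnt
    obtain ⟨t, ht, htz⟩ : ∃ t : G, orderOf t = 2 ∧ t ≠ z := by
      by_cases h : x = z
      · exact ⟨y, hy, fun h' => hxy (h.trans h'.symm)⟩
      · exact ⟨x, hx, h⟩
    obtain ⟨hB4, hB2⟩ := Invol.fourGroup_props z t hz ht htz (mem_center_iff.1 hzc t).symm
    have hB : ∃ B : Subgroup G, IsMulCommutative B ∧ ¬ IsCyclic B :=
      ⟨_, S0519.comm_of_sq hB2, S0519.klein_not_cyclic hB4 hB2⟩
    obtain ⟨-, ⟨n, ⟨e⟩⟩ | ⟨n, hn, ⟨e⟩⟩ | hqd⟩ := S0519.result 2 hP hno hB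
    · haveI : NeZero n := ⟨fun h => by
        subst h
        haveI : Finite (QuaternionGroup 0) := Finite.of_equiv G e.toEquiv
        haveI : Finite ℤ := Finite.of_injective (fun i : ℤ => (QuaternionGroup.a i : QuaternionGroup 0))
          fun a b h => by injection h
        exact not_finite ℤ⟩
      exact hcl (class_eq_of_equiv hm2 hG e (centralizer_card_quaternion))
    · haveI : NeZero n := ⟨by omega⟩
      exact hcl (class_eq_of_equiv hm2 hG e (centralizer_card_dihedral))
    · obtain ⟨n, x, y, h⟩ := TwoGroups.QDData.of_isQuasiDihedral hqd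
      refine hcl (class_eq_of_equiv hm2 hG (MulEquiv.refl G) (x := y) ?_)
      exact (h.toMaxClassData.card_centralizer h.notMem).le
  let Ω : Subgroup G :=
    { carrier := {a | a ∈ A ∧ a * a = 1}
      one_mem' := ⟨one_mem A, one_mul 1⟩
      mul_mem' := fun {a c} ha hc => ⟨mul_mem ha.1 hc.1, by
        have h : a * c = c * a := congrArg Subtype.val (hAc.is_comm.comm ⟨a, ha.1⟩ ⟨c, hc.1⟩)
        calc a * c * (a * c) = a * c * (c * a) := by rw [h]
          _ = a * (c * c) * a := by simp only [mul_assoc]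
          _ = 1 := by rw [hc.2, mul_one, ha.2]⟩
      inv_mem' := fun {a} ha => ⟨inv_mem ha.1, by rw [← mul_inv_rev, ha.2, inv_one]⟩ }
  haveI hΩn : Ω.Normal := ⟨fun a ha g => ⟨hAn.conj_mem a ha.1 g, by
    calc g * a * g⁻¹ * (g * a * g⁻¹) = g * (a * a) * g⁻¹ := by group
      _ = 1 := by rw [ha.2]; group⟩⟩
  have sq : ∀ u : G, orderOf u = 2 → u * u = 1 := fun u hu => by
    rw [← pow_two, ← hu, pow_orderOf_eq_one]
  have hne : A ≠ ⊥ := fun h => hA (h ▸ isCyclic_of_subsingleton)
  obtain ⟨z, hzA, hzc, hz⟩ := TwoGroups.exists_central_involution_of_normal hP A hne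
  haveI : (zpowers z).Normal := ⟨fun a ha g => by
    obtain ⟨k, rfl⟩ := ha
    refine ⟨k, ?_⟩
    have := mem_center_iff.1 (zpow_mem hzc k) g
    simp only
    rw [this, mul_inv_cancel_right]⟩
  have hlt : zpowers z < Ω := by
    refine lt_of_le_not_ge (zpowers_le.2 ⟨hzA, sq z hz⟩) fun h => ?_
    refine hA (Invol.isCyclic_of_unique_involution hP A hAc z fun a ha ha2 => ?_)
    obtain ⟨k, hk⟩ := h (show a ∈ Ω from ⟨ha, sq a ha2⟩)
    simp only at hk
    rcases Int.even_or_odd k with ⟨j, rfl⟩ | ⟨j, rfl⟩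
    · rw [zpow_add, ← (Commute.refl z).mul_zpow, sq z hz, one_zpow] at hk
      rw [← hk, orderOf_one] at ha2
      omega
    · rw [zpow_add, zpow_one, zpow_mul, zpow_two, sq z hz, one_zpow, one_mul] at hk
      exact hk.symm
  obtain ⟨b, hb, hbz, hbg⟩ := Invol.exists_central_mod hP Ω (zpowers z) hlt
  have hb2 : orderOf b = 2 :=
    orderOf_eq_prime (by rw [pow_two]; exact hb.2) fun e => hbz (e ▸ one_mem _)
  have hzconj : ∀ g : G, g * z * g⁻¹ = z := fun g => by
    rw [mem_center_iff.1 hzc g, mul_inv_cancel_right]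
  obtain ⟨h4, h2⟩ := Invol.fourGroup_props z b hz hb2 (fun e => hbz (e ▸ mem_zpowers z))
    (mem_center_iff.1 hzc b).symm
  refine ⟨_, Invol.fourGroup_normal z b hz hb2 (mem_center_iff.1 hzc b).symm hzconj ?_, h4,
    fun u hu => by rw [← pow_two]; exact h2 u hu⟩
  intro g
  obtain ⟨k, hk⟩ := hbg g
  simp only at hk
  rcases Int.even_or_odd k with ⟨j, rfl⟩ | ⟨j, rfl⟩
  · rw [zpow_add, ← (Commute.refl z).mul_zpow, sq z hz, one_zpow] at hk
    exact Or.inl (mul_inv_eq_one.1 hk.symm)
  · rw [zpow_add, zpow_one, zpow_mul, zpow_two, sq z hz, one_zpow, one_mul] at hk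
    exact Or.inr (mul_inv_eq_iff_eq_mul.1 hk.symm)

/-- Miller: the number of cyclic subgroups of order `2 ^ n`, `n ≥ 2`. -/
theorem even_card_cyclic [Finite G] {m : ℕ} (hG : Nat.card G = 2 ^ m) (hnc : ¬ IsCyclic G)
    (hcl : Group.nilpotencyClass G ≠ m - 1) {n : ℕ} (hn : 2 ≤ n) :
    Even (Nat.card {H : Subgroup G // Nat.card H = 2 ^ n ∧ IsCyclic H}) := by
  classical
  haveI : Fact (Nat.Prime 2) := ⟨Nat.prime_two⟩
  have hP : IsPGroup 2 G := IsPGroup.of_card hG
  obtain ⟨E, hEn, hE4, hE2⟩ := exists_normal_four hG hnc hcl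
  haveI := hEn
  have hEne : E ≠ ⊥ := fun h => by rw [h, Subgroup.card_bot] at hE4; omega
  obtain ⟨z, hzE, hzc, hz⟩ := TwoGroups.exists_central_involution_of_normal hP E hEne
  have hzz : z * z = 1 := hE2 z hzE
  have hz1 : z ≠ 1 := fun h => by rw [h, orderOf_one] at hz; omega
  obtain ⟨e, heE, he⟩ : ∃ e ∈ E, e ∉ zpowers z := by
    by_contra h
    push Not at h
    have := Subgroup.card_le_of_le (show E ≤ zpowers z from h)
    rw [hE4, Nat.card_zpowers, hz] at this
    omega
  have he1 : e ≠ 1 := fun h => he (h ▸ one_mem _)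
  have hez : e ≠ z := fun h => he (h ▸ mem_zpowers z)
  have hzcomm : ∀ g : G, g * z = z * g := fun g => mem_center_iff.1 hzc g
  set f := e * z with hfdef
  have hfE : f ∈ E := mul_mem heE hzE
  have hEall : ∀ u ∈ E, u = 1 ∨ u = z ∨ u = e ∨ u = f := by
    intro u hu
    by_contra h
    push Not at h
    have hfE1 : f ≠ 1 := fun hh => hez (by rw [eq_inv_of_mul_eq_one_left hh]; exact inv_eq_of_mul_eq_one_right hzz)
    have hfz : f ≠ z := fun hh => he1 (mul_eq_right.1 hh)
    have hfe : f ≠ e := fun hh => hz1 (mul_eq_left.1 hh)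
    haveI := Fintype.ofFinite E
    have hsub : ({⟨1, one_mem _⟩, ⟨z, hzE⟩, ⟨e, heE⟩, ⟨f, hfE⟩, ⟨u, hu⟩} : Finset E).card = 5 := by
      rw [Finset.card_insert_of_notMem, Finset.card_insert_of_notMem, Finset.card_insert_of_notMem,
        Finset.card_insert_of_notMem, Finset.card_singleton] <;>
        simp [Subtype.ext_iff, h.1.symm, h.2.1.symm, h.2.2.1.symm, h.2.2.2.symm, hz1.symm, he1.symm,
          hez.symm, hfE1.symm, hfz.symm, hfe.symm]
    have := Finset.card_le_univ ({⟨1, one_mem _⟩, ⟨z, hzE⟩, ⟨e, heE⟩, ⟨f, hfE⟩, ⟨u, hu⟩} : Finset E)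
    rw [hsub, ← Nat.card_eq_fintype_card, hE4] at this
    omega
  set C := centralizer (E : Set G) with hC
  have hCe : ∀ x : G, x ∈ C ↔ x * e = e * x := by
    intro x
    refine ⟨fun hx => (Subgroup.mem_centralizer_iff.1 hx e heE).symm, fun hx => ?_⟩
    refine Subgroup.mem_centralizer_iff.2 fun u hu => ?_
    rcases hEall u hu with rfl | rfl | rfl | rfl
    · simp
    · exact (hzcomm x).symm
    · exact hx.symm
    · rw [hfdef, mul_assoc, ← hzcomm x, ← mul_assoc, ← hx, mul_assoc]
  have hout : ∀ x : G, x ∉ C → x * e * x⁻¹ = f := by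
    intro x hx
    rcases hEall _ (hEn.conj_mem e heE x) with h | h | h | h
    · exact absurd (conj_eq_one_iff.1 h) he1
    · refine absurd ?_ hez
      calc e = x⁻¹ * (x * e * x⁻¹) * x := by group
        _ = z := by rw [h, mul_assoc, ← hzcomm x, inv_mul_cancel_left]
    · exact absurd ((hCe x).2 (mul_inv_eq_iff_eq_mul.1 h)) hx
    · exact h
  have hEcomm : ∀ u ∈ E, u ∈ C := fun u hu => (hCe u).2 (by
    calc u * e = u⁻¹ * e⁻¹ := by
          rw [inv_eq_of_mul_eq_one_right (hE2 u hu), inv_eq_of_mul_eq_one_right (hE2 e heE)]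
      _ = (e * u)⁻¹ := by rw [mul_inv_rev]
      _ = e * u := inv_eq_of_mul_eq_one_right (hE2 _ (mul_mem heE hu)))
  -- square of `x * e` outside the centralizer
  have hsqe : ∀ x : G, x ∉ C → (x * e) * (x * e) = x * x * z := by
    intro x hx
    have h := hout x hx
    have h2 : x * e = f * x := mul_inv_eq_iff_eq_mul.1 h
    calc x * e * (x * e) = f * x * (x * e) := by rw [h2]
      _ = f * (x * (x * e)) := by simp only [mul_assoc]
      _ = f * (x * (f * x)) := by rw [h2]
      _ = f * ((x * e) * z * x) := by rw [hfdef]; simp only [mul_assoc]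
      _ = f * (f * x * z * x) := by rw [h2]
      _ = (f * f) * (x * (z * x)) := by simp only [mul_assoc]
      _ = x * x * z := by rw [hE2 f hfE, one_mul, ← hzcomm x, mul_assoc]
  -- generators
  set S : Finset (Subgroup G) := (Set.toFinite {H : Subgroup G | Nat.card H = 2 ^ n ∧ IsCyclic H}).toFinset
    with hS
  have hmemS : ∀ H, H ∈ S ↔ Nat.card H = 2 ^ n ∧ IsCyclic H := fun H => by simp [hS]
  have hgen : ∀ H : Subgroup G, ∃ x : G, H ∈ S → zpowers x = H := by
    intro H
    by_cases h : H ∈ S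
    · haveI := ((hmemS H).1 h).2
      obtain ⟨g, hg⟩ := IsCyclic.exists_zpow_surjective (G := H)
      refine ⟨g, fun _ => le_antisymm (zpowers_le.2 g.2) fun y hy => ?_⟩
      obtain ⟨i, hi⟩ := hg ⟨y, hy⟩
      exact ⟨i, congrArg Subtype.val hi⟩
    · exact ⟨1, fun h' => absurd h' h⟩
  choose gen hgen using hgen
  let eps : Subgroup G → G := fun H =>
    if gen H ∈ C then (if e ∈ H then f else e)
    else if z ∉ H then z else (if n = 2 then 1 else e)
  let F : Subgroup G → Subgroup G := fun H => zpowers (gen H * eps H)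
  -- the unique involution of a member
  have hinv : ∀ x : G, orderOf x = 2 ^ n → ∀ u : G, u ≠ 1 → u * u = 1 → u ∈ zpowers x →
      u = x ^ (2 ^ (n - 1)) := by
    intro x hx u hu1 hu2 hu
    obtain ⟨i, rfl⟩ := Subgroup.mem_zpowers_iff.1 hu
    have hdiv : ((2 ^ n : ℕ) : ℤ) ∣ i + i := by
      rw [← hx, orderOf_dvd_iff_zpow_eq_one, zpow_add]; exact hu2
    obtain ⟨c, hc⟩ := hdiv
    have h2n : ((2 ^ n : ℕ) : ℤ) = 2 * ((2 ^ (n - 1) : ℕ) : ℤ) := by
      have : (2 : ℕ) ^ n = 2 * 2 ^ (n - 1) := by rw [← pow_succ', Nat.sub_add_cancel (by omega)]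
      exact_mod_cast this
    have hi : i = ((2 ^ (n - 1) : ℕ) : ℤ) * c := by rw [h2n] at hc; linarith
    rcases Int.even_or_odd c with ⟨d, rfl⟩ | ⟨d, rfl⟩
    · refine absurd ?_ hu1
      rw [hi, show ((2 ^ (n - 1) : ℕ) : ℤ) * (d + d) = ((2 ^ n : ℕ) : ℤ) * d by rw [h2n]; ring,
        zpow_mul, zpow_natCast, ← hx, pow_orderOf_eq_one, one_zpow]
    · rw [hi, show ((2 ^ (n - 1) : ℕ) : ℤ) * (2 * d + 1) =
        ((2 ^ n : ℕ) : ℤ) * d + ((2 ^ (n - 1) : ℕ) : ℤ) by rw [h2n]; ring,
        zpow_add, zpow_mul, zpow_natCast, ← hx, pow_orderOf_eq_one, one_zpow, one_mul, zpow_natCast]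
  have hord : ∀ H ∈ S, orderOf (gen H) = 2 ^ n := fun H hH => by
    rw [← Nat.card_zpowers, hgen H hH]; exact ((hmemS H).1 hH).1
  have hgmem : ∀ H ∈ S, gen H ∈ H := fun H hH => (hgen H hH).le (mem_zpowers _)
  -- properties of `eps`
  have heps : ∀ H ∈ S, eps H ∈ E ∧ (eps H = 1 ↔ gen H ∉ C ∧ z ∈ H ∧ n = 2) ∧
      (eps H ≠ 1 → eps H ∉ H) ∧
      ∃ w, (w = 1 ∨ (w = z ∧ z ∈ H ∧ 3 ≤ n)) ∧
        (gen H * eps H) * (gen H * eps H) = gen H * gen H * w := by
    intro H hH
    have hHcomm : ∀ u ∈ H, gen H * u = u * gen H := by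
      intro u hu
      rw [← hgen H hH] at hu
      obtain ⟨i, rfl⟩ := hu
      exact ((Commute.refl (gen H)).zpow_right i).eq
    have hcomsq : ∀ u ∈ E, gen H * u = u * gen H →
        gen H * u * (gen H * u) = gen H * gen H * 1 := fun u hu hc => by
      calc gen H * u * (gen H * u) = gen H * (u * gen H) * u := by simp only [mul_assoc]
        _ = gen H * gen H * (u * u) := by rw [← hc]; simp only [mul_assoc]
        _ = gen H * gen H * 1 := by rw [hE2 u hu]
    by_cases hc : gen H ∈ C
    · have hcom : ∀ u ∈ E, gen H * u = u * gen H := fun u hu =>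
        (Subgroup.mem_centralizer_iff.1 hc u hu).symm
      by_cases h : e ∈ H
      · have he' : eps H = f := by simp [eps, hc, h]
        rw [he']
        have hf1 : f ≠ 1 := fun hh => hez (by
          rw [eq_inv_of_mul_eq_one_left hh]; exact inv_eq_of_mul_eq_one_right hzz)
        refine ⟨hfE, iff_of_false hf1 (fun hh => hh.1 hc), fun _ hfH => ?_,
          1, Or.inl rfl, hcomsq f hfE (hcom f hfE)⟩
        rw [← hgen H hH] at h hfH
        have h1 := hinv _ (hord H hH) e he1 (hE2 e heE) h
        have h2 := hinv _ (hord H hH) f hf1 (hE2 f hfE) hfH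
        exact hz1 (mul_eq_left.1 (h2.trans h1.symm))
      · have he' : eps H = e := by simp [eps, hc, h]
        rw [he']
        exact ⟨heE, iff_of_false he1 (fun hh => hh.1 hc), fun _ => h,
          1, Or.inl rfl, hcomsq e heE (hcom e heE)⟩
    · have heH : e ∉ H := fun h => hc ((hCe _).2 (hHcomm e h))
      by_cases h : z ∈ H
      · by_cases hn2 : n = 2
        · have he' : eps H = 1 := by simp [eps, hc, h, hn2]
          rw [he']
          exact ⟨one_mem _, iff_of_true rfl ⟨hc, h, hn2⟩, fun hh => absurd rfl hh,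
            1, Or.inl rfl, by simp⟩
        · have he' : eps H = e := by simp [eps, hc, h, hn2]
          rw [he']
          exact ⟨heE, iff_of_false he1 (fun hh => hn2 hh.2.2), fun _ => heH,
            z, Or.inr ⟨rfl, h, by omega⟩, hsqe _ hc⟩
      · have he' : eps H = z := by simp [eps, hc, h]
        rw [he']
        exact ⟨hzE, iff_of_false hz1 (fun hh => h hh.2.1), fun _ => h,
          1, Or.inl rfl, hcomsq z hzE (hzcomm _)⟩
  -- the image
  have himg : ∀ H ∈ S, F H ∈ S ∧ (gen H * eps H) ^ (2 ^ (n - 1)) = gen H ^ (2 ^ (n - 1)) := by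
    intro H hH
    obtain ⟨-, -, -, w, hw, hsq⟩ := heps H hH
    have key : ∀ k, 1 ≤ k → (2 ≤ k ∨ w = 1) →
        (gen H * eps H) ^ (2 ^ k) = gen H ^ (2 ^ k) := by
      intro k hk hk'
      rw [show 2 ^ k = 2 * 2 ^ (k - 1) by rw [← pow_succ', Nat.sub_add_cancel hk], pow_mul, pow_mul,
        pow_two, pow_two, hsq]
      have hwc : Commute (gen H * gen H) w := by
        rcases hw with rfl | ⟨rfl, -, -⟩
        · exact Commute.one_right _
        · exact hzcomm _
      rw [hwc.mul_pow]
      rcases hk' with hk' | rfl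
      · have : w ^ (2 ^ (k - 1)) = 1 := by
          rw [show 2 ^ (k - 1) = 2 * 2 ^ (k - 2) by rw [← pow_succ']; congr 1; omega, pow_mul, pow_two]
          rcases hw with rfl | ⟨rfl, -, -⟩ <;> simp [hzz]
        rw [this, mul_one]
      · rw [one_pow, mul_one]
    have h1 : (gen H * eps H) ^ (2 ^ (n - 1)) = gen H ^ (2 ^ (n - 1)) := by
      refine key _ (by omega) ?_
      rcases hw with h | ⟨-, -, h⟩
      · exact Or.inr h
      · exact Or.inl (by omega)
    refine ⟨(hmemS _).2 ⟨?_, inferInstance⟩, h1⟩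
    rw [Nat.card_zpowers, show n = n - 1 + 1 by omega]
    refine orderOf_eq_prime_pow ?_ ?_
    · rw [h1]
      exact pow_ne_one_of_lt_orderOf (by positivity)
        (by rw [hord H hH]; exact Nat.pow_lt_pow_right one_lt_two (by omega))
    · rw [key _ (by omega) (Or.inl (by omega)), show n - 1 + 1 = n by omega, ← hord H hH,
        pow_orderOf_eq_one]
  -- the map is an involution
  have hsame : ∀ H ∈ S, ∀ u ∈ E, (u ∈ F H ↔ u ∈ H) := by
    intro H hH u hu
    obtain ⟨hFS, hpow⟩ := himg H hH
    by_cases hu1 : u = 1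
    · simp [hu1]
    have hyord : orderOf (gen H * eps H) = 2 ^ n := by
      rw [← Nat.card_zpowers]; exact ((hmemS _).1 hFS).1
    constructor
    · intro h
      rw [hinv _ hyord u hu1 (hE2 u hu) h, hpow]
      exact pow_mem (hgmem H hH) _
    · intro h
      rw [← hgen H hH] at h
      rw [hinv _ (hord H hH) u hu1 (hE2 u hu) h, ← hpow]
      exact pow_mem (mem_zpowers _) _
  have hC' : ∀ H ∈ S, (gen (F H) ∈ C ↔ gen H ∈ C) := by
    intro H hH
    have hFS := (himg H hH).1
    have h1 : eps H ∈ C := hEcomm _ (heps H hH).1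
    have h2 : gen H * eps H ∈ zpowers (gen (F H)) := by
      rw [hgen _ hFS]; exact mem_zpowers _
    have h3 : gen (F H) ∈ zpowers (gen H * eps H) := hgmem _ hFS
    constructor
    · intro h
      exact (mul_mem_cancel_right h1).1 (zpowers_le.2 h h2)
    · intro h
      exact zpowers_le.2 (mul_mem h h1) h3
  have heps' : ∀ H ∈ S, eps (F H) = eps H := by
    intro H hH
    simp only [eps]
    rw [if_congr (hC' H hH) (if_congr (hsame H hH e heE) rfl rfl)
      (if_congr (not_congr (hsame H hH z hzE)) rfl rfl)]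
  have hFF : ∀ H ∈ S, F (F H) = H := by
    intro H hH
    obtain ⟨hFS, -⟩ := himg H hH
    obtain ⟨hεE, -, hεH, w, hw, hsq⟩ := heps H hH
    show zpowers (gen (F H) * eps (F H)) = H
    rw [heps' H hH]
    have hFFS : zpowers (gen (F H) * eps (F H)) ∈ S := (himg _ hFS).1
    rw [heps' H hH] at hFFS
    refine Subgroup.eq_of_le_of_card_ge ?_ (le_of_eq (((hmemS _).1 hH).1.trans ((hmemS _).1 hFFS).1.symm))
    rw [zpowers_le]
    set y := gen H * eps H with hy
    have hy2 : y * y ∈ H := by
      rw [hsq]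
      refine mul_mem (mul_mem (hgmem H hH) (hgmem H hH)) ?_
      rcases hw with rfl | ⟨rfl, h, -⟩
      · exact one_mem _
      · exact h
    have hyz : ∀ i : ℤ, (y * y) ^ i ∈ H := fun i => zpow_mem hy2 i
    obtain ⟨i, hi⟩ := Subgroup.mem_zpowers_iff.1 (hgmem _ hFS : gen (F H) ∈ zpowers y)
    rcases Int.even_or_odd i with ⟨j, rfl⟩ | ⟨j, rfl⟩
    · have hin : gen (F H) ∈ H := by
        rw [← hi, zpow_add, ← (Commute.refl y).mul_zpow]; exact hyz j
      have hyH : y ∈ H := (zpowers_le.2 hin) (by rw [hgen _ hFS]; exact mem_zpowers _)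
      have hεin : eps H ∈ H := (mul_mem_cancel_left (hgmem H hH)).1 hyH
      by_cases h1 : eps H = 1
      · rw [h1, mul_one]; exact hin
      · exact absurd hεin (hεH h1)
    · rw [← hi, zpow_add, zpow_one, zpow_mul, zpow_two, mul_assoc _ y,
        show y * eps H = gen H by rw [hy, mul_assoc, hE2 _ hεE, mul_one]]
      exact mul_mem (hyz j) (hgmem H hH)
  rw [show Nat.card {H : Subgroup G // Nat.card H = 2 ^ n ∧ IsCyclic H} = S.card by
    rw [← Nat.card_eq_finsetCard]; exact Nat.card_congr (Equiv.subtypeEquivRight fun H => (hmemS H).symm)]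
  rw [even_card_filter_of_involution S F (fun H hH => (himg H hH).1) hFF]
  have hfix : ∀ H ∈ S, (F H = H ↔ gen H ∉ C ∧ z ∈ H ∧ n = 2) := by
    intro H hH
    obtain ⟨-, h1, hεH, -⟩ := heps H hH
    rw [← h1]
    constructor
    · intro h
      by_contra hne
      apply hεH hne
      have : gen H * eps H ∈ H := h.le (mem_zpowers _)
      exact (mul_mem_cancel_left (hgmem H hH)).1 this
    · intro h
      show zpowers _ = H
      rw [h, mul_one, hgen H hH]
  rw [Finset.filter_congr hfix]
  by_cases hn2 : n = 2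
  swap
  · simp [hn2]
  subst hn2
  by_cases hCtop : C = ⊤
  · simp [hCtop]
  -- cosets
  have hGcard : 3 ≤ m ∧ m ≠ 3 := by
    obtain ⟨g, hg⟩ : ∃ g : G, g ∉ C := by
      by_contra h
      push Not at h
      exact hCtop (eq_top_iff.2 fun g _ => h g)
    refine ⟨?_, ?_⟩
    · by_contra h
      have hm2 : m = 2 := by
        have := Subgroup.card_le_card_group (H := E)
        rw [hE4, hG] at this
        have : 2 ≤ m := (Nat.pow_le_pow_iff_right (le_refl 2)).1 (by simpa using this)
        omega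
      letI := IsPGroup.commGroupOfCardEqPrimeSq (p := 2) (G := G) (by rw [hG, hm2])
      exact hg ((hCe g).2 (mul_comm _ _))
    · rintro rfl
      refine hcl (FGSev.nilpotencyClass_of_small_centralizer 3 G hG (by omega) g ?_)
      have hne : centralizer ({g} : Set G) ≠ ⊤ := fun h => hg ((hCe g).2 (by
        have : e ∈ centralizer ({g} : Set G) := h ▸ mem_top e
        exact (mem_centralizer_singleton_iff.1 this).symm))
      have h1 := (centralizer ({g} : Set G)).card_mul_index
      have h2 : 2 ≤ (centralizer ({g} : Set G)).index := by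
        have := (centralizer ({g} : Set G)).index_ne_zero_of_finite
        have : (centralizer ({g} : Set G)).index ≠ 1 := fun h => hne (index_eq_one.1 h)
        omega
      rw [hG, show (2 : ℕ) ^ 3 = 8 by rfl] at h1
      rw [show (2 : ℕ) ^ 2 = 4 by rfl]
      nlinarith
  set q : G →* G ⧸ E := QuotientGroup.mk' E with hq
  have hqC : ∀ g : G, q g ∈ C.map q ↔ g ∈ C := by
    intro g
    refine ⟨fun ⟨c, hc, hcg⟩ => ?_, fun h => Subgroup.mem_map_of_mem q h⟩
    have h1 : c⁻¹ * g ∈ E := QuotientGroup.eq.1 hcg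
    simpa using mul_mem hc (hEcomm _ h1)
  haveI := Fintype.ofFinite (G ⧸ E)
  set T : Finset (G ⧸ E) := Finset.univ.filter fun a => a ∉ C.map q with hT
  have hTe : Even T.card := by
    have hCE : E ≤ C := hEcomm
    have h1 : Nat.card (C.map q) * 4 = Nat.card C := by
      have e1 := (C.map q).card_mul_index
      have e2 := E.card_mul_index
      have e3 := C.card_mul_index
      have e4 : (C.map q).index = C.index := by
        rw [hq, Subgroup.index_map, QuotientGroup.ker_mk', sup_eq_left.2 hCE,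
          (MonoidHom.range_eq_top.2 (QuotientGroup.mk'_surjective E)), Subgroup.index_top, mul_one]
      rw [e4, ← Subgroup.index_eq_card] at e1
      rw [hE4] at e2
      refine Nat.eq_of_mul_eq_mul_right (Nat.pos_of_ne_zero C.index_ne_zero_of_finite) ?_
      rw [e3, ← e2, ← e1]; ring
    have hCi : C.index ∣ 2 := by
      by_cases hall : ∃ g, g ∉ C
      · obtain ⟨g, hg⟩ := hall
        refine dvd_of_eq (index_eq_two_iff.2 ⟨g, fun b => ?_⟩)
        by_cases hb : b ∈ C
        · exact Or.inr ⟨hb, fun h => hg ((mul_mem_cancel_left hb).1 h)⟩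
        · refine Or.inl ⟨(hCe _).2 ?_, hb⟩
          have hfc : g * f * g⁻¹ = e := by
            rw [hfdef, ← conj_mul, hout g hg, hzcomm g, mul_inv_cancel_right, hfdef, mul_assoc, hzz,
              mul_one]
          have : (b * g) * e * (b * g)⁻¹ = e := by
            calc (b * g) * e * (b * g)⁻¹ = b * (g * e * g⁻¹) * b⁻¹ := by group
              _ = (b * e * b⁻¹) * (b * z * b⁻¹) := by rw [hout g hg, hfdef]; group
              _ = e := by rw [hout b hb, hzcomm b, mul_inv_cancel_right, hfdef, mul_assoc, hzz, mul_one]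
          exact mul_inv_eq_iff_eq_mul.1 this
      · push Not at hall
        exact absurd (eq_top_iff.2 fun g _ => hall g) hCtop
    have h2 : Even (Nat.card (C.map q)) := by
      have h3 := C.card_mul_index
      obtain ⟨k, hk⟩ : ∃ k, m = k + 4 := ⟨m - 4, by omega⟩
      rw [← h1, hG, hk, pow_add] at h3
      rcases (Nat.dvd_prime Nat.prime_two).1 hCi with h | h
      · exact absurd (index_eq_one.1 h) hCtop
      · rw [h] at h3
        exact ⟨2 ^ k, by omega⟩
    have h5 : T.card = Fintype.card (G ⧸ E) - Nat.card (C.map q) := by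
      rw [hT, Nat.card_eq_fintype_card (α := C.map q), ← Fintype.card_subtype,
        Fintype.card_subtype_compl]
    have h4 : Even (Fintype.card (G ⧸ E)) := by
      rw [← Nat.card_eq_fintype_card, ← (C.map q).card_mul_index]
      exact h2.mul_right _
    rw [h5, Nat.even_sub (by rw [← Nat.card_eq_fintype_card]; exact Subgroup.card_le_card_group _)]
    exact iff_of_true h4 h2
  rw [even_card_filter_of_involution T (fun a => a⁻¹)
    (fun a ha => Finset.mem_filter.2 ⟨Finset.mem_univ _,
      fun h => (Finset.mem_filter.1 ha).2 (inv_mem_iff.1 h)⟩) (fun a _ => inv_inv a)] at hTe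
  convert hTe using 1
  refine Finset.card_bij (fun H _ => q (gen H)) ?_ ?_ ?_
  · intro H hH
    obtain ⟨hH, hc, hz', -⟩ := Finset.mem_filter.1 hH
    refine Finset.mem_filter.2 ⟨Finset.mem_filter.2 ⟨Finset.mem_univ _, fun h => hc ((hqC _).1 h)⟩, ?_⟩
    rw [← map_inv]
    refine (QuotientGroup.eq).2 ?_
    rw [inv_inv]
    rw [← hgen H hH] at hz'
    have := hinv _ (hord H hH) z hz1 hzz hz'
    rw [show 2 ^ (2 - 1) = 2 by rfl, pow_two] at this
    rw [← this]; exact hzE
  · intro H hH H' hH' h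
    obtain ⟨hH, hc, hz', -⟩ := Finset.mem_filter.1 hH
    obtain ⟨hH', hc', hz'', -⟩ := Finset.mem_filter.1 hH'
    have hε : (gen H)⁻¹ * gen H' ∈ E := QuotientGroup.eq.1 h
    have sqz : ∀ K ∈ S, z ∈ K → gen K * gen K = z := fun K hK hzK => by
      rw [← hgen K hK] at hzK
      rw [hinv _ (hord K hK) z hz1 hzz hzK]; exact (pow_two _).symm
    have hε' : (gen H)⁻¹ * gen H' ∈ H := by
      have hbad : ∀ g g' : G, g ∉ C → g * g = z → g' * g' = z → g' = g * e → False := by
        intro g g' hg h1 h2 h3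
        rw [h3, hsqe g hg, h1] at h2
        exact hz1 (mul_eq_left.1 h2)
      rcases hEall _ hε with h1 | h1 | h1 | h1
      · rw [h1]; exact one_mem _
      · rw [h1]; exact hz'
      · exact (hbad _ _ hc (sqz H hH hz') (sqz H' hH' hz'') (inv_mul_eq_iff_eq_mul.1 h1)).elim
      · exfalso
        have hgz : gen H * z ∉ C := fun hh => hc ((mul_mem_cancel_right (hEcomm z hzE)).1 hh)
        have hsz : gen H * z * (gen H * z) = z := by
          calc gen H * z * (gen H * z) = gen H * (z * gen H) * z := by simp only [mul_assoc]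
            _ = gen H * gen H * (z * z) := by rw [← hzcomm]; simp only [mul_assoc]
            _ = z := by rw [hzz, mul_one, sqz H hH hz']
        refine hbad _ _ hgz hsz (sqz H' hH' hz'') ?_
        rw [inv_mul_eq_iff_eq_mul.1 h1, hfdef, hzcomm e, mul_assoc]
    refine (Subgroup.eq_of_le_of_card_ge ?_ (le_of_eq (((hmemS _).1 hH).1.trans ((hmemS _).1 hH').1.symm))).symm
    rw [← hgen H' hH', zpowers_le]
    simpa using mul_mem (hgmem H hH) hε'
  · intro a ha
    obtain ⟨ha, hinv'⟩ := Finset.mem_filter.1 ha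
    obtain ⟨g, rfl⟩ := QuotientGroup.mk'_surjective E a
    have hg : g ∉ C := by
      rw [hT, Finset.mem_filter] at ha
      exact fun h => ha.2 ((hqC g).2 h)
    have hgg : g * g ∈ E := by
      have h1 : q g⁻¹ = q g := by rw [map_inv]; exact hinv'
      have h2 := QuotientGroup.eq.1 h1
      simpa using h2
    obtain ⟨x, hx, hxx, hxg⟩ : ∃ x, x ∉ C ∧ x * x = z ∧ q x = q g := by
      have hge : g * e ∉ C := fun hh => hg ((mul_mem_cancel_right (hEcomm e heE)).1 hh)
      have hcom : g * (g * g) = g * g * g := (mul_assoc g g g).symm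
      rcases hEall _ hgg with h | h | h | h
      · refine ⟨g * e, hge, by rw [hsqe g hg, h, one_mul], ?_⟩
        rw [map_mul, show q e = 1 from (QuotientGroup.eq_one_iff e).2 heE, mul_one]
      · exact ⟨g, hg, h, rfl⟩
      · rw [h] at hcom; exact absurd ((hCe g).2 hcom) hg
      · rw [h, hfdef] at hcom
        refine absurd ((hCe g).2 ?_) hg
        rw [← mul_assoc, mul_assoc e, ← hzcomm g, ← mul_assoc] at hcom
        exact mul_right_cancel hcom
    have hxord : orderOf x = 2 ^ 2 :=
      orderOf_eq_prime_pow (p := 2) (n := 1) (by rw [pow_one, pow_two, hxx]; exact hz1)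
        (by rw [show 2 ^ (1 + 1) = 2 * 2 by rfl, pow_mul, pow_two, pow_two, hxx, hzz])
    have hxS : zpowers x ∈ S := (hmemS _).2 ⟨by rw [Nat.card_zpowers]; exact hxord, inferInstance⟩
    have hzx : z ∈ zpowers x := hxx ▸ mul_mem (mem_zpowers x) (mem_zpowers x)
    obtain ⟨i, hi⟩ := Subgroup.mem_zpowers_iff.1 (hgmem _ hxS)
    have hnot : gen (zpowers x) ∉ C := fun h => hx (zpowers_le.2 h (by
      rw [hgen _ hxS]; exact mem_zpowers x))
    refine ⟨zpowers x, Finset.mem_filter.2 ⟨hxS, hnot, hzx, rfl⟩, ?_⟩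
    rcases Int.even_or_odd i with ⟨j, rfl⟩ | ⟨j, rfl⟩
    · refine absurd ?_ hnot
      rw [← hi, zpow_add, ← (Commute.refl x).mul_zpow, hxx]
      exact zpow_mem (hEcomm z hzE) j
    · rw [← hi, zpow_add, zpow_one, zpow_mul, zpow_two, hxx, map_mul, ← hxg,
        show q (z ^ j) = 1 from (QuotientGroup.eq_one_iff _).2 (zpow_mem hzE j), one_mul]

/-- The two-adic case of Kulakoff's congruence. -/
theorem count_two [Finite G] {m k : ℕ} (hG : Nat.card G = 2 ^ m) (hnc : ¬ IsCyclic G)
    (hcl : Group.nilpotencyClass G ≠ m - 1) (hk1 : 1 ≤ k) (hk2 : k < m) :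
    Nat.card {H : Subgroup G // Nat.card H = 2 ^ k} ≡ 1 + 2 [MOD 2 ^ 2] := by
  classical
  haveI : Fact (Nat.Prime 2) := ⟨Nat.prime_two⟩
  have hN : Nat.card G = 2 ^ (k + 1) * 2 ^ (m - (k + 1)) := by
    rw [hG, ← pow_add]; congr 1; omega
  set N := 2 ^ (m - (k + 1)) with hNdef
  have hNpos : 0 < N := by positivity
  have hodd : ∀ {X : Type _} [Group X] [Finite X] (i : ℕ), 2 ^ i ∣ Nat.card X →
      Nat.card {H : Subgroup X // Nat.card H = 2 ^ i} % 2 = 1 := fun i hi => by
    have := Cfsg.Agent.SubgroupCount.card_subgroups_modEq_one Nat.prime_two hi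
    simpa [Nat.ModEq] using this
  -- the binomial coefficient
  have hchoose : (2 ^ (k + 1) * N - 1).choose (2 ^ (k + 1) - 1) % 4 = (2 * N - 1) % 4 := by
    haveI : NeZero (2 ^ (k + 1) * N) := ⟨(Nat.mul_pos (by positivity) hNpos).ne'⟩
    let C := Multiplicative (ZMod (2 ^ (k + 1) * N))
    have hC : Nat.card C = 2 ^ (k + 1) * N := by simp [C]
    have hone : ∀ i ≤ k + 1, Nat.card {H : Subgroup C // Nat.card H = 2 ^ i} = 1 := fun i hi => by
      refine Nat.card_eq_one_iff_unique.2 ⟨⟨fun A B => ?_⟩, ?_⟩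
      · exact Subtype.ext (Cfsg.Agent.FrobeniusCompl.eq_of_card_eq (A.2.trans B.2.symm))
      · obtain ⟨K, hK⟩ := Sylow.exists_subgroup_card_pow_prime (G := C) 2
          (hC ▸ (pow_dvd_pow 2 hi).trans (dvd_mul_right _ _))
        exact ⟨⟨K, hK⟩⟩
    have ht : ∀ H : {H : Subgroup C // Nat.card H = 2 ^ (k + 1)},
        Nat.card {K : Subgroup C // Nat.card K = 2 ^ k ∧ K ≤ H.1} = 1 := fun H => by
      refine Nat.card_eq_one_iff_unique.2 ⟨⟨fun A B => ?_⟩, ?_⟩
      · exact Subtype.ext (Cfsg.Agent.FrobeniusCompl.eq_of_card_eq (A.2.1.trans B.2.1.symm))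
      · obtain ⟨K, hK⟩ := Sylow.exists_subgroup_card_pow_prime (G := H.1) 2 (n := k)
          ((pow_dvd_pow 2 (Nat.le_succ k)).trans (dvd_of_eq H.2.symm))
        exact ⟨⟨K.map H.1.subtype, by
          rw [Subgroup.card_map_of_injective H.1.subtype_injective]; exact hK,
          Subgroup.map_subtype_le _⟩⟩
    have h := S4237.linking (G := C) Nat.prime_two hC
    simp only [hone k (by omega), hone (k + 1) le_rfl, one_mul] at h
    haveI : Fintype {H : Subgroup C // Nat.card H = 2 ^ (k + 1)} := Fintype.ofFinite _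
    rw [finsum_eq_sum_of_fintype, Finset.sum_congr rfl (fun H _ => ht H), Finset.sum_const,
      Finset.card_univ, ← Nat.card_eq_fintype_card, hone (k + 1) le_rfl, smul_eq_mul, one_mul,
      Nat.choose_one_right] at h
    simp only [Nat.ModEq, show (2 : ℕ) ^ 2 = 4 from rfl] at h
    omega
  have h := S4237.linking (G := G) Nat.prime_two hN
  haveI : Fintype {H : Subgroup G // Nat.card H = 2 ^ (k + 1)} := Fintype.ofFinite _
  rw [finsum_eq_sum_of_fintype, Nat.choose_one_right] at h
  set Sall := (Finset.univ : Finset {H : Subgroup G // Nat.card H = 2 ^ (k + 1)})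
  have hterm : ∀ H ∈ Sall, (Nat.card {K : Subgroup G // Nat.card K = 2 ^ k ∧ K ≤ H.1} +
      2 * (if IsCyclic H.1 then 1 else 0)) % 4 = 3 := by
    intro H _
    have he : Nat.card {K : Subgroup G // Nat.card K = 2 ^ k ∧ K ≤ H.1} =
        Nat.card {M : Subgroup H.1 // M.index = 2} := by
      refine Nat.card_congr
        { toFun := fun K => ⟨K.1.subgroupOf H.1, ?_⟩
          invFun := fun M => ⟨M.1.map H.1.subtype, ?_, Subgroup.map_subtype_le _⟩
          left_inv := fun K => Subtype.ext (Subgroup.map_subgroupOf_eq_of_le K.2.2)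
          right_inv := fun M => Subtype.ext
            (Subgroup.comap_map_eq_self_of_injective H.1.subtype_injective _) }
      · have h1 := (K.1.subgroupOf H.1).card_mul_index
        rw [Nat.card_congr (Subgroup.subgroupOfEquivOfLe K.2.2).toEquiv, K.2.1] at h1
        exact Nat.eq_of_mul_eq_mul_left (pow_pos two_pos k) (h1.trans (H.2.trans (pow_succ 2 k)))
      · rw [Subgroup.card_map_of_injective H.1.subtype_injective]
        have h1 := M.1.card_mul_index
        rw [M.2] at h1
        exact Nat.eq_of_mul_eq_mul_right two_pos (h1.trans (H.2.trans (pow_succ 2 k)))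
    rw [he]
    split_ifs with hc
    · haveI := hc
      have h1 : Nat.card {M : Subgroup H.1 // M.index = 2} = 1 := by
        refine Nat.card_eq_one_iff_unique.2 ⟨⟨fun A B => ?_⟩, ?_⟩
        · letI := IsCyclic.commGroup (α := H.1)
          refine Subtype.ext (Cfsg.Agent.FrobeniusCompl.eq_of_card_eq ?_)
          have h1 := A.1.card_mul_index
          have h2 := B.1.card_mul_index
          rw [A.2] at h1
          rw [B.2, ← h1] at h2
          exact (Nat.eq_of_mul_eq_mul_right two_pos h2).symm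
        · obtain ⟨K, hK⟩ := Sylow.exists_subgroup_card_pow_prime (G := H.1) 2 (n := k)
            ((pow_dvd_pow 2 (Nat.le_succ k)).trans (dvd_of_eq H.2.symm))
          refine ⟨⟨K, ?_⟩⟩
          have h1 := K.card_mul_index
          rw [hK] at h1
          exact Nat.eq_of_mul_eq_mul_left (pow_pos two_pos k) (h1.trans (H.2.trans (pow_succ 2 k)))
      rw [h1]
    · have := S4237.card_maximal (IsPGroup.of_card H.2) hc
      simpa [Nat.ModEq] using this
  have hsum : (∑ H ∈ Sall, Nat.card {K : Subgroup G // Nat.card K = 2 ^ k ∧ K ≤ H.1}) % 4 +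
      0 = (Sall.card * 3 + 2 * (Sall.filter fun H => IsCyclic H.1).card) % 4 := by
    rw [add_zero, Finset.card_filter, Finset.mul_sum]
    have e1 : ∀ H ∈ Sall, (Nat.card {K : Subgroup G // Nat.card K = 2 ^ k ∧ K ≤ H.1}) % 4 =
        (3 + 2 * (if IsCyclic H.1 then 1 else 0)) % 4 := by
      intro H hH
      have := hterm H hH
      split_ifs at this ⊢ <;> omega
    rw [Finset.sum_nat_mod, Finset.sum_congr rfl e1, ← Finset.sum_nat_mod, Finset.sum_add_distrib,
      Finset.sum_const, smul_eq_mul]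
  have hc : (Sall.filter fun H => IsCyclic H.1).card % 2 = 0 := by
    rw [← Fintype.card_subtype, ← Nat.card_eq_fintype_card, Nat.card_congr
      (Equiv.subtypeSubtypeEquivSubtypeInter (fun H : Subgroup G => Nat.card H = 2 ^ (k + 1))
        (fun H => IsCyclic H))]
    exact Nat.even_iff.1 (even_card_cyclic hG hnc hcl (by omega))
  have hs1 := hodd (X := G) (k + 1) (hN ▸ dvd_mul_right _ _)
  have hs0 := hodd (X := G) k ((pow_dvd_pow 2 (Nat.le_succ k)).trans (hN ▸ dvd_mul_right _ _))
  have hSall : Sall.card = Nat.card {H : Subgroup G // Nat.card H = 2 ^ (k + 1)} := by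
    rw [Nat.card_eq_fintype_card]; rfl
  simp only [Nat.ModEq, show (2 : ℕ) ^ 2 = 4 from rfl] at h ⊢
  rw [Nat.add_mod, hchoose] at h
  set s1 := Nat.card {H : Subgroup G // Nat.card H = 2 ^ (k + 1)}
  set s0 := Nat.card {H : Subgroup G // Nat.card H = 2 ^ k}
  set T := ∑ H ∈ Sall, Nat.card {K : Subgroup G // Nat.card K = 2 ^ k ∧ K ≤ H.1}
  set M := 2 * N - 1 with hM
  have hMc : M % 4 = 1 ∨ M % 4 = 3 := by omega
  rw [Nat.add_mod s1, Nat.mul_mod] at h
  rcases hMc with hMc | hMc <;> rw [hMc] at h <;> omega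

end Cfsg.Agent.KulakoffTwo
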