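import Cfsg.Agent.Lib.ClassSize
import Mathlib.Data.Nat.ChineseRemainder
import Mathlib.Data.Nat.Factorization.Induction

/-!
# Classes of π-elements in a coset

For `x` a π-element normalising `M`, the number of `M`-orbits of π-elements in `x M` equals the number
of `x`-stable classes of π-elements of `M`; hence `k_π(G) ≤ k_π(N) k_π(G/N)`.
-/

set_option autoImplicit false

namespace Cfsg.Agent.ClassCount

open Subgroup

/-- Exponents splitting elements into π-parts and π'-parts. -/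
structure Split (G : Type*) [Group G] (e f : ℕ) : Prop where
  add : ∀ g : G, g ^ e * g ^ f = g
  mul : ∀ g : G, (g ^ e) ^ f = 1

variable {G : Type*} [Group G] {e f : ℕ} (h : Split G e f)
include h

theorem Split.mul' (g : G) : (g ^ f) ^ e = 1 := by rw [← pow_mul, mul_comm, pow_mul, h.mul]

theorem Split.pow_e {g : G} (hg : g ^ f = 1) : g ^ e = g := by
  simpa [hg] using h.add g

theorem Split.pow_f {g : G} (hg : g ^ e = 1) : g ^ f = g := by
  simpa [hg] using h.add g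

theorem Split.parts {u v : G} (hc : Commute u v) (hu : u ^ f = 1) (hv : v ^ e = 1) :
    (u * v) ^ e = u ∧ (u * v) ^ f = v := by
  rw [hc.mul_pow, hc.mul_pow, hu, hv, mul_one, one_mul]
  exact ⟨h.pow_e hu, h.pow_f hv⟩

theorem Split.commute_iff {g m : G} : Commute g m ↔ Commute (g ^ e) m ∧ Commute (g ^ f) m :=
  ⟨fun hc => ⟨hc.pow_left _, hc.pow_left _⟩, fun ⟨h1, h2⟩ => h.add g ▸ h1.mul_left h2⟩

omit h in
theorem pow_mem_coset {M : Subgroup G} {x : G} (hx : x ∈ normalizer (M : Set G)) {y : G}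
    (hy : x⁻¹ * y ∈ M) : ∀ k : ℕ, (x ^ k)⁻¹ * y ^ k ∈ M := by
  intro k
  induction k with
  | zero => simp
  | succ k ih =>
    have h1 := (mem_normalizer_iff''.1 hx _).1 ih
    have h2 := M.mul_mem h1 hy
    convert h2 using 1
    rw [pow_succ, pow_succ]
    group

theorem Split.f_mem {M : Subgroup G} {x : G} (hx : x ∈ normalizer (M : Set G)) (hxf : x ^ f = 1) {y : G}
    (hy : x⁻¹ * y ∈ M) : y ^ f ∈ M := by
  simpa [hxf] using pow_mem_coset hx hy f

theorem Split.e_mem {M : Subgroup G} {x : G} (hx : x ∈ normalizer (M : Set G)) (hxf : x ^ f = 1) {y : G}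
    (hy : x⁻¹ * y ∈ M) : x⁻¹ * y ^ e ∈ M := by
  simpa [h.pow_e hxf] using pow_mem_coset hx hy e

omit h

/-- Commuting pairs in `x M × M` with π first entry. -/
def cosetPairs (M : Subgroup G) (x : G) (f : ℕ) :=
  {p : G × G // x⁻¹ * p.1 ∈ M ∧ p.2 ∈ M ∧ Commute p.1 p.2 ∧ p.1 ^ f = 1}

/-- Commuting pairs in `M × M` with stable π first entry. -/
def stablePairs (M : Subgroup G) (x : G) (f : ℕ) :=
  {p : G × G // p.1 ∈ M ∧ p.2 ∈ M ∧ Commute p.1 p.2 ∧ p.1 ^ f = 1 ∧
    ∃ y, x⁻¹ * y ∈ M ∧ Commute y p.1}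

/-- Stable π'-elements. -/
def stableRest (M : Subgroup G) (x : G) (e : ℕ) :=
  {v : G // v ∈ M ∧ v ^ e = 1 ∧ ∃ y, x⁻¹ * y ∈ M ∧ Commute y v}

variable [Finite G]

instance (M : Subgroup G) (x : G) : Finite (cosetPairs M x f) := Subtype.finite

instance (M : Subgroup G) (x : G) : Finite (stablePairs M x f) := Subtype.finite


theorem coset_centralizer_iff {M : Subgroup G} {x x' v y : G} (hx' : x⁻¹ * x' ∈ M) (hc : Commute x' v) :
    x'⁻¹ * y ∈ M ⊓ centralizer ({v} : Set G) ↔ x⁻¹ * y ∈ M ∧ Commute y v := by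
  constructor
  · rintro ⟨h1, h2⟩
    have h3 : Commute (x'⁻¹ * y) v := mem_centralizer_singleton_iff.1 h2
    refine ⟨?_, ?_⟩
    · simpa [mul_assoc] using M.mul_mem hx' h1
    · simpa using hc.mul_left h3
  · rintro ⟨h1, h2⟩
    refine ⟨?_, mem_centralizer_singleton_iff.2 (hc.inv_left.mul_left h2).eq⟩
    simpa [mul_assoc] using M.mul_mem (M.inv_mem hx') h1

include h in
/-- Orbits of π-elements in a coset correspond in number to stable classes of π-elements. -/
theorem Split.card_cosetPairs_eq : ∀ (n : ℕ) (M : Subgroup G) (x : G), Nat.card M = n →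
    x ∈ normalizer (M : Set G) → x ^ f = 1 →
    Nat.card (cosetPairs M x f) = Nat.card (stablePairs M x f) := by
  intro n
  induction n using Nat.strong_induction_on with
  | _ n ih =>
  intro M x hn hx hxf
  classical
  have hrep : ∀ v : stableRest M x e, ∃ x' : G, x⁻¹ * x' ∈ M ∧ Commute x' v.1 ∧ x' ^ f = 1 := by
    rintro ⟨v, -, -, y, hy, hyv⟩
    exact ⟨y ^ e, h.e_mem hx hxf hy, hyv.pow_left e, h.mul y⟩
  choose rep hrep1 hrep2 hrep3 using hrep
  let Mv : stableRest M x e → Subgroup G := fun v => M ⊓ centralizer ({v.1} : Set G)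
  -- all commuting pairs, split by π'-parts
  let T := {p : G × G // x⁻¹ * p.1 ∈ M ∧ p.2 ∈ M ∧ Commute p.1 p.2}
  let T' := {p : G × G // p.1 ∈ M ∧ p.2 ∈ M ∧ Commute p.1 p.2 ∧ ∃ y, x⁻¹ * y ∈ M ∧ Commute y p.1}
  have e1 : T ≃ Σ v : stableRest M x e, cosetPairs (Mv v) (rep v) f :=
    { toFun := fun p =>
        let v : stableRest M x e := ⟨p.1.1 ^ f, h.f_mem hx hxf p.2.1, h.mul' _,
          p.1.1, p.2.1, (Commute.refl _).pow_right f⟩
        ⟨v, ⟨(p.1.1 ^ e, p.1.2),
          (coset_centralizer_iff (hrep1 v) (hrep2 v)).2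
            ⟨h.e_mem hx hxf p.2.1, Commute.pow_pow (Commute.refl _) e f⟩,
          ⟨p.2.2.1, mem_centralizer_singleton_iff.2 (p.2.2.2.pow_left f).symm.eq⟩,
          p.2.2.2.pow_left e, h.mul _⟩⟩
      invFun := fun z => ⟨(z.2.1.1 * z.1.1, z.2.1.2), by
        obtain ⟨h1, h2⟩ := (coset_centralizer_iff (hrep1 z.1) (hrep2 z.1)).1 z.2.2.1
        refine ⟨?_, z.2.2.2.1.1, z.2.2.2.2.1.mul_left ?_⟩
        · simpa [mul_assoc] using M.mul_mem h1 z.1.2.1
        · exact (show Commute z.2.1.2 z.1.1 from mem_centralizer_singleton_iff.1 z.2.2.2.1.2).symm⟩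
      left_inv := fun p => Subtype.ext (Prod.ext (h.add _) rfl)
      right_inv := by
        rintro ⟨v, ⟨⟨y, m⟩, hy, hm, hc, hyf⟩⟩
        have hyv := ((coset_centralizer_iff (hrep1 v) (hrep2 v)).1 hy).2
        obtain ⟨pe, pf⟩ := h.parts hyv hyf v.2.2.1
        exact Sigma.subtype_ext (Subtype.ext pf) (Prod.ext pe rfl) }
  have e2 : T' ≃ Σ v : stableRest M x e, stablePairs (Mv v) (rep v) f :=
    { toFun := fun p =>
        let v : stableRest M x e := ⟨p.1.1 ^ f, M.pow_mem p.2.1 f, h.mul' _,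
          p.2.2.2.2.choose, p.2.2.2.2.choose_spec.1, p.2.2.2.2.choose_spec.2.pow_right f⟩
        ⟨v, ⟨(p.1.1 ^ e, p.1.2),
          ⟨M.pow_mem p.2.1 e, mem_centralizer_singleton_iff.2 (Commute.pow_pow (Commute.refl _) e f).eq⟩,
          ⟨p.2.2.1, mem_centralizer_singleton_iff.2 (p.2.2.2.1.pow_left f).symm.eq⟩,
          p.2.2.2.1.pow_left e, h.mul _,
          p.2.2.2.2.choose, (coset_centralizer_iff (hrep1 v) (hrep2 v)).2
            ⟨p.2.2.2.2.choose_spec.1, p.2.2.2.2.choose_spec.2.pow_right f⟩,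
          p.2.2.2.2.choose_spec.2.pow_right e⟩⟩
      invFun := fun z => ⟨(z.2.1.1 * z.1.1, z.2.1.2), by
        obtain ⟨y, hy, hyu⟩ := z.2.2.2.2.2.2
        obtain ⟨h1, h2⟩ := (coset_centralizer_iff (hrep1 z.1) (hrep2 z.1)).1 hy
        refine ⟨M.mul_mem z.2.2.1.1 z.1.2.1, z.2.2.2.1.1, z.2.2.2.2.1.mul_left ?_,
          y, h1, hyu.mul_right h2⟩
        exact (show Commute z.2.1.2 z.1.1 from mem_centralizer_singleton_iff.1 z.2.2.2.1.2).symm⟩
      left_inv := fun p => Subtype.ext (Prod.ext (h.add _) rfl)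
      right_inv := by
        rintro ⟨v, ⟨⟨u, m⟩, hu, hm, hc, huf, hex⟩⟩
        obtain ⟨pe, pf⟩ := h.parts (mem_centralizer_singleton_iff.1 hu.2) huf v.2.2.1
        exact Sigma.subtype_ext (Subtype.ext pf) (Prod.ext pe rfl) }
  -- the two totals agree
  have hT : Nat.card T = Nat.card T' := by
    let E1 : T ≃ Σ m : M, {y : G // x⁻¹ * y ∈ M ∧ Commute y (m : G)} :=
      { toFun := fun p => ⟨⟨p.1.2, p.2.2.1⟩, p.1.1, p.2.1, p.2.2.2⟩
        invFun := fun z => ⟨(z.2.1, z.1.1), z.2.2.1, z.1.2, z.2.2.2⟩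
        left_inv := fun _ => rfl
        right_inv := fun _ => rfl }
    let E2 : T' ≃ Σ m : M, {k : G // k ∈ M ∧ Commute (m : G) k ∧ ∃ y, x⁻¹ * y ∈ M ∧ Commute y (m : G)} :=
      { toFun := fun p => ⟨⟨p.1.1, p.2.1⟩, p.1.2, p.2.2.1, p.2.2.2.1, p.2.2.2.2⟩
        invFun := fun z => ⟨(z.1.1, z.2.1), z.1.2, z.2.2.1, z.2.2.2.1, z.2.2.2.2⟩
        left_inv := fun _ => rfl
        right_inv := fun _ => rfl }
    haveI : Fintype M := Fintype.ofFinite M
    rw [Nat.card_congr E1, Nat.card_congr E2, Nat.card_sigma, Nat.card_sigma]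
    refine Finset.sum_congr rfl fun m _ => ?_
    by_cases hm : ∃ y, x⁻¹ * y ∈ M ∧ Commute y (m : G)
    · obtain ⟨y0, hy0, hy0m⟩ := hm
      exact Nat.card_congr
        { toFun := fun y => ⟨y0⁻¹ * y.1, by
            simpa [mul_assoc] using M.mul_mem (M.inv_mem hy0) y.2.1,
            (hy0m.inv_left.mul_left y.2.2).symm, y0, hy0, hy0m⟩
          invFun := fun k => ⟨y0 * k.1, by simpa [mul_assoc] using M.mul_mem hy0 k.2.1,
            hy0m.mul_left k.2.2.1.symm⟩
          left_inv := fun y => Subtype.ext (mul_inv_cancel_left _ _)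
          right_inv := fun k => Subtype.ext (inv_mul_cancel_left _ _) }
    · haveI : IsEmpty {y : G // x⁻¹ * y ∈ M ∧ Commute y (m : G)} := ⟨fun y => hm ⟨_, y.2⟩⟩
      haveI : IsEmpty {k : G // k ∈ M ∧ Commute (m : G) k ∧ ∃ y, x⁻¹ * y ∈ M ∧ Commute y (m : G)} :=
        ⟨fun y => hm y.2.2.2⟩
      rw [Nat.card_of_isEmpty, Nat.card_of_isEmpty]
  haveI : Finite (stableRest M x e) := Subtype.finite
  haveI : ∀ (N : Subgroup G) (z : G), Finite (cosetPairs N z f) := fun _ _ => Subtype.finite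
  haveI : ∀ (N : Subgroup G) (z : G), Finite (stablePairs N z f) := fun _ _ => Subtype.finite
  haveI : Fintype (stableRest M x e) := Fintype.ofFinite _
  rw [Nat.card_congr e1, Nat.card_congr e2, Nat.card_sigma, Nat.card_sigma] at hT
  have hsmall : ∀ v, Mv v ≠ M →
      Nat.card (cosetPairs (Mv v) (rep v) f) = Nat.card (stablePairs (Mv v) (rep v) f) := by
    intro v hv
    refine ih _ ?_ _ _ rfl ?_ (hrep3 v)
    · rw [← hn]
      exact lt_of_le_of_ne (Nat.le_of_dvd Nat.card_pos (card_dvd_of_le inf_le_left))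
        fun e0 => hv (eq_of_le_of_card_ge inf_le_left e0.ge)
    · have hn1 : rep v ∈ normalizer (M : Set G) := by
        simpa using (normalizer (M : Set G)).mul_mem hx (le_normalizer (hrep1 v))
      have hn2 : Commute (rep v) v.1 := hrep2 v
      rw [mem_normalizer_iff]
      intro g
      constructor
      · rintro ⟨h1, h2⟩
        refine ⟨(mem_normalizer_iff.1 hn1 g).1 h1, mem_centralizer_singleton_iff.2 ?_⟩
        exact ((hn2.mul_left (show Commute g v.1 from mem_centralizer_singleton_iff.1 h2)).mul_left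
          hn2.inv_left).eq
      · rintro ⟨h1, h2⟩
        refine ⟨(mem_normalizer_iff.1 hn1 g).2 h1, mem_centralizer_singleton_iff.2 ?_⟩
        have h3 := (hn2.inv_left.mul_left
          (show Commute (rep v * g * (rep v)⁻¹) v.1 from mem_centralizer_singleton_iff.1 h2)).mul_left hn2
        simpa [mul_assoc] using h3.eq
  have hbig : ∀ v, Mv v = M →
      Nat.card (cosetPairs (Mv v) (rep v) f) = Nat.card (cosetPairs M x f) ∧
      Nat.card (stablePairs (Mv v) (rep v) f) = Nat.card (stablePairs M x f) := by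
    intro v hv
    have hco : ∀ y, (rep v)⁻¹ * y ∈ M ↔ x⁻¹ * y ∈ M := fun y =>
      ⟨fun h1 => by simpa [mul_assoc] using M.mul_mem (hrep1 v) h1,
        fun h1 => by simpa [mul_assoc] using M.mul_mem (M.inv_mem (hrep1 v)) h1⟩
    rw [hv]
    exact ⟨Nat.card_congr (Equiv.subtypeEquivRight fun p => by rw [hco]),
      Nat.card_congr (Equiv.subtypeEquivRight fun p => by simp only [hco])⟩
  by_contra hne
  have hv1 : (Finset.univ.filter fun v => Mv v = M).Nonempty :=
    ⟨⟨1, M.one_mem, one_pow e, x, by simp, Commute.one_right x⟩, Finset.mem_filter.2 ⟨Finset.mem_univ _,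
      inf_eq_left.2 fun g _ => mem_centralizer_singleton_iff.2 ((mul_one g).trans (one_mul g).symm)⟩⟩
  rw [← Finset.sum_filter_add_sum_filter_not Finset.univ (fun v => Mv v = M)] at hT
  conv_rhs at hT => rw [← Finset.sum_filter_add_sum_filter_not Finset.univ (fun v => Mv v = M)]
  rw [Finset.sum_congr rfl fun v hv => (hbig v (Finset.mem_filter.1 hv).2).1,
    Finset.sum_congr rfl fun v hv => (hbig v (Finset.mem_filter.1 hv).2).2,
    Finset.sum_congr rfl fun v hv => hsmall v (Finset.mem_filter.1 hv).2,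
    Nat.add_right_cancel_iff, Finset.sum_const, Finset.sum_const, smul_eq_mul, smul_eq_mul] at hT
  exact hne (Nat.eq_of_mul_eq_mul_left (Finset.card_pos.2 hv1) hT)

omit [Finite G] in
theorem card_pairs_eq [Finite G] (P : G → Prop) (hP : ∀ g x, P x → P (g * x * g⁻¹)) :
    Nat.card {p : G × G // P p.1 ∧ Commute p.1 p.2} =
      Nat.card G * Nat.card {C : ConjClasses G // ∃ g, ConjClasses.mk g = C ∧ P g} := by
  classical
  haveI : Fintype G := Fintype.ofFinite G
  let E : {p : G × G // P p.1 ∧ Commute p.1 p.2} ≃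
      Σ C : {C : ConjClasses G // ∃ g, ConjClasses.mk g = C ∧ P g},
        Σ g : C.1.carrier, centralizer ({(g : G)} : Set G) :=
    { toFun := fun p => ⟨⟨ConjClasses.mk p.1.1, p.1.1, rfl, p.2.1⟩, ⟨p.1.1, ConjClasses.mem_carrier_mk⟩,
        p.1.2, mem_centralizer_singleton_iff.2 p.2.2.symm.eq⟩
      invFun := fun z => ⟨(z.2.1.1, z.2.2.1), by
        obtain ⟨g, hg, hPg⟩ := z.1.2
        have h1 := ConjClasses.mk_eq_mk_iff_isConj.1
          ((ConjClasses.mem_carrier_iff_mk_eq.1 z.2.1.2).trans hg.symm)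
        obtain ⟨c, hc⟩ := isConj_iff.1 h1.symm
        exact ⟨(congrArg P hc).mp (hP c g hPg), (show Commute z.2.2.1 z.2.1.1 from
          mem_centralizer_singleton_iff.1 z.2.2.2).symm⟩⟩
      left_inv := fun _ => rfl
      right_inv := by
        rintro ⟨⟨C, hC⟩, ⟨g, hg⟩, k, hk⟩
        obtain rfl := ConjClasses.mem_carrier_iff_mk_eq.1 hg
        rfl }
  rw [Nat.card_congr E, Nat.card_sigma]
  have hterm : ∀ C : {C : ConjClasses G // ∃ g, ConjClasses.mk g = C ∧ P g},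
      Nat.card (Σ g : C.1.carrier, centralizer ({(g : G)} : Set G)) = Nat.card G := by
    intro C
    rw [Nat.card_sigma]
    have hg : ∀ g : C.1.carrier,
        Nat.card (centralizer ({(g : G)} : Set G)) * Nat.card C.1.carrier = Nat.card G := by
      rintro ⟨g, hg⟩
      obtain hgC := ConjClasses.mem_carrier_iff_mk_eq.1 hg
      rw [show Nat.card C.1.carrier = (centralizer ({g} : Set G)).index from
        (congrArg (fun D => Nat.card D.carrier) hgC.symm).trans (ClassSize.natCard_carrier g),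
        card_mul_index]
    have hpos : 0 < Nat.card C.1.carrier := by
      obtain ⟨g, hg', -⟩ := C.2
      haveI : Nonempty C.1.carrier := ⟨⟨g, ConjClasses.mem_carrier_iff_mk_eq.2 hg'⟩⟩
      exact Nat.card_pos
    apply Nat.eq_of_mul_eq_mul_right hpos
    rw [Finset.sum_mul, Finset.sum_congr rfl fun g _ => hg g, Finset.sum_const, smul_eq_mul,
      Finset.card_univ, ← Nat.card_eq_fintype_card, mul_comm]
  rw [Finset.sum_congr rfl fun C _ => hterm C, Finset.sum_const, smul_eq_mul, Finset.card_univ,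
    ← Nat.card_eq_fintype_card, mul_comm]

/-- Existence of a coprime factorisation along a set of primes. -/
theorem exists_pi_factor (π : Set ℕ) : ∀ n : ℕ, n ≠ 0 → ∃ a b : ℕ, a * b = n ∧ a.Coprime b ∧
    (∀ q : ℕ, q.Prime → q ∣ a → q ∈ π) ∧ ∀ q : ℕ, q.Prime → q ∣ b → q ∉ π := by
  classical
  intro n
  induction n using Nat.recOnPrimeCoprime with
  | zero => exact fun h0 => absurd rfl h0
  | prime_pow p k hp =>
    intro _
    by_cases hpπ : p ∈ π
    · exact ⟨p ^ k, 1, mul_one _, Nat.coprime_one_right _, fun q hq hd =>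
        ((Nat.prime_dvd_prime_iff_eq hq hp).1 (hq.dvd_of_dvd_pow hd)).symm ▸ hpπ,
        fun q hq hd => absurd hd hq.not_dvd_one⟩
    · exact ⟨1, p ^ k, one_mul _, Nat.coprime_one_left _, fun q hq hd => absurd hd hq.not_dvd_one,
        fun q hq hd => ((Nat.prime_dvd_prime_iff_eq hq hp).1 (hq.dvd_of_dvd_pow hd)).symm ▸ hpπ⟩
  | coprime m k _ _ hmk ihm ihk =>
    intro h0
    obtain ⟨a, b, hab, hc, ha, hb⟩ := ihm (left_ne_zero_of_mul h0)
    obtain ⟨a', b', hab', hc', ha', hb'⟩ := ihk (right_ne_zero_of_mul h0)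
    refine ⟨a * a', b * b', by rw [← hab, ← hab']; ring, ?_, ?_, ?_⟩
    · exact Nat.coprime_of_dvd fun q hq h1 h2 =>
        (hq.dvd_mul.1 h2).elim (fun h3 => hb q hq h3 ((hq.dvd_mul.1 h1).elim (ha q hq) (ha' q hq)))
          fun h3 => hb' q hq h3 ((hq.dvd_mul.1 h1).elim (ha q hq) (ha' q hq))
    · exact fun q hq hd => (hq.dvd_mul.1 hd).elim (ha q hq) (ha' q hq)
    · exact fun q hq hd => (hq.dvd_mul.1 hd).elim (hb q hq) (hb' q hq)

/-- Exponents for π-parts. -/
theorem exists_split (π : Set ℕ) (n : ℕ) (hn : n ≠ 0) : ∃ e f : ℕ,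
    ∀ (H : Type*) [Group H], (∀ g : H, g ^ n = 1) → Split H e f ∧
      ∀ g : H, g ^ f = 1 ↔ ∀ q : ℕ, q.Prime → q ∣ orderOf g → q ∈ π := by
  obtain ⟨a, b, hab, hc, ha, hb⟩ := exists_pi_factor π n hn
  obtain ⟨e, he1, he2⟩ := Nat.chineseRemainder hc 1 0
  obtain ⟨f, hf1, hf2⟩ := Nat.chineseRemainder hc 0 1
  refine ⟨e, f, fun H _ hH => ?_⟩
  have hsum : e + f ≡ 1 [MOD n] := by
    rw [← hab, ← Nat.modEq_and_modEq_iff_modEq_mul hc]
    exact ⟨by simpa using he1.add hf1, by simpa using he2.add hf2⟩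
  have hdvd : n ∣ e * f := by
    rw [← hab, mul_comm e f]
    exact Nat.mul_dvd_mul (Nat.modEq_zero_iff_dvd.1 hf1) (Nat.modEq_zero_iff_dvd.1 he2)
  refine ⟨⟨fun g => ?_, fun g => ?_⟩, fun g => ⟨fun hg q hq hd => ?_, fun hg => ?_⟩⟩
  · rw [← pow_add]
    have ho : orderOf g ∣ n := orderOf_dvd_of_pow_eq_one (hH g)
    conv_rhs => rw [← pow_one g]
    exact pow_eq_pow_iff_modEq.2 (hsum.of_dvd ho)
  · obtain ⟨k, hk⟩ := hdvd
    rw [← pow_mul, hk, pow_mul, hH, one_pow]
  · by_contra hqπ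
    have hqn : q ∣ n := hd.trans (orderOf_dvd_of_pow_eq_one (hH g))
    rw [← hab] at hqn
    have hqb : q ∣ b := (hq.dvd_mul.1 hqn).resolve_left fun h1 => hqπ (ha q hq h1)
    have hqf : q ∣ f := hd.trans (orderOf_dvd_of_pow_eq_one hg)
    have : f ≡ 1 [MOD q] := hf2.of_dvd hqb
    have h1 := (this.symm.trans (Nat.modEq_zero_iff_dvd.2 hqf))
    exact hq.not_dvd_one (Nat.modEq_zero_iff_dvd.1 h1)
  · apply orderOf_dvd_iff_pow_eq_one.1
    have hcop : (orderOf g).Coprime b := Nat.coprime_of_dvd fun q hq h1 h2 => hb q hq h2 (hg q hq h1)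
    have ho : orderOf g ∣ a * b := hab ▸ orderOf_dvd_of_pow_eq_one (hH g)
    exact (hcop.dvd_of_dvd_mul_right ho).trans (Nat.modEq_zero_iff_dvd.1 hf1)

/-- `k_π(G) ≤ k_π(N) k_π(G/N)`. -/
theorem card_piClasses_le (N : Subgroup G) [N.Normal] (π : Set ℕ) :
    Nat.card {C : ConjClasses G // ∃ g, ConjClasses.mk g = C ∧ ∀ q : ℕ, q.Prime → q ∣ orderOf g → q ∈ π} ≤
      Nat.card {C : ConjClasses N // ∃ g, ConjClasses.mk g = C ∧ ∀ q : ℕ, q.Prime → q ∣ orderOf g → q ∈ π} *
      Nat.card {C : ConjClasses (G ⧸ N) //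
        ∃ g, ConjClasses.mk g = C ∧ ∀ q : ℕ, q.Prime → q ∣ orderOf g → q ∈ π} := by
  classical
  obtain ⟨e, f, hef⟩ := exists_split π (Nat.card G) Nat.card_pos.ne'
  obtain ⟨hG, hGπ⟩ := hef G fun g => pow_card_eq_one'
  obtain ⟨-, hNπ⟩ := hef N fun g => Subtype.ext (by simp [pow_card_eq_one'])
  obtain ⟨hQ, hQπ⟩ := hef (G ⧸ N) fun g => by
    obtain ⟨g, rfl⟩ := QuotientGroup.mk_surjective g
    rw [← QuotientGroup.mk_pow, pow_card_eq_one', QuotientGroup.mk_one]
  simp only [← hGπ, ← hNπ, ← hQπ]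
  apply Nat.le_of_mul_le_mul_left _ (Nat.card_pos (α := G))
  rw [← card_pairs_eq (fun g : G => g ^ f = 1) (fun g x hx => by rw [conj_pow, hx, mul_one, mul_inv_cancel])]
  have hQc := card_pairs_eq (fun g : G ⧸ N => g ^ f = 1)
    (fun g x hx => by rw [conj_pow, hx, mul_one, mul_inv_cancel])
  have hNc := card_pairs_eq (fun g : N => g ^ f = 1)
    (fun g x hx => by rw [conj_pow, hx, mul_one, mul_inv_cancel])
  set kN := Nat.card {C : ConjClasses N // ∃ g, ConjClasses.mk g = C ∧ g ^ f = 1}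
  set kQ := Nat.card {C : ConjClasses (G ⧸ N) // ∃ g, ConjClasses.mk g = C ∧ g ^ f = 1}
  -- one coset at a time
  have hcoset : ∀ x : G, x ^ f = 1 → Nat.card (cosetPairs N x f) ≤ Nat.card N * kN := by
    intro x hx
    rw [hG.card_cosetPairs_eq _ N x rfl (by rw [normalizer_eq_top]; exact mem_top x) hx, ← hNc]
    refine Nat.card_le_card_of_injective (α := stablePairs N x f)
      (fun p => ⟨(⟨p.1.1, p.2.1⟩, ⟨p.1.2, p.2.2.1⟩), Subtype.ext p.2.2.2.2.1,
        Subtype.ext p.2.2.2.1.eq⟩) ?_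
    intro p q hpq
    have h1 := congrArg (fun z => ((z.1.1 : N) : G)) hpq
    have h2 := congrArg (fun z => ((z.1.2 : N) : G)) hpq
    exact Subtype.ext (Prod.ext h1 h2)
  let Φ : {p : G × G // p.1 ^ f = 1 ∧ Commute p.1 p.2} →
      {p : (G ⧸ N) × (G ⧸ N) // p.1 ^ f = 1 ∧ Commute p.1 p.2} := fun p =>
    ⟨((p.1.1 : G ⧸ N), (p.1.2 : G ⧸ N)), by rw [← QuotientGroup.mk_pow, p.2.1, QuotientGroup.mk_one],
      p.2.2.map (QuotientGroup.mk' N)⟩
  have hfib : ∀ q, Nat.card {p // Φ p = q} ≤ Nat.card N * kN := by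
    intro q
    by_cases hne : Nonempty {p // Φ p = q}
    · obtain ⟨⟨⟨⟨g0, h0⟩, hg0, hc0⟩, hq0⟩⟩ := hne
      refine le_trans ?_ (hcoset g0 hg0)
      have hmem : ∀ p : {p // Φ p = q}, g0⁻¹ * p.1.1.1 ∈ N := fun p => by
        rw [← QuotientGroup.eq]
        exact congrArg (fun z => z.1.1) (hq0.trans p.2.symm)
      have hsec : ∀ g : G, ∃ k : G, ∀ p : {p // Φ p = q}, p.1.1.1 = g →
          Commute g k ∧ k⁻¹ * p.1.1.2 ∈ N := by
        intro g
        by_cases hg : ∃ p : {p // Φ p = q}, p.1.1.1 = g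
        · obtain ⟨p0, rfl⟩ := hg
          exact ⟨p0.1.1.2, fun p _ => ⟨p0.1.2.2, QuotientGroup.eq.1
            (congrArg (fun z => z.1.2) (p0.2.trans p.2.symm))⟩⟩
        · exact ⟨1, fun p hp => absurd ⟨p, hp⟩ hg⟩
      choose sec hsec using hsec
      refine Nat.card_le_card_of_injective (β := cosetPairs N g0 f)
        (fun p => ⟨(p.1.1.1, (sec p.1.1.1)⁻¹ * p.1.1.2), hmem p, (hsec _ p rfl).2,
          (hsec _ p rfl).1.inv_right.mul_right p.1.2.2, p.1.2.1⟩) ?_
      intro p p' hpp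
      have h1 : p.1.1.1 = p'.1.1.1 := congrArg (fun z => z.1.1) hpp
      have h2 : (sec p.1.1.1)⁻¹ * p.1.1.2 = (sec p'.1.1.1)⁻¹ * p'.1.1.2 := congrArg (fun z => z.1.2) hpp
      rw [h1] at h2
      exact Subtype.ext (Subtype.ext (Prod.ext h1 (mul_left_cancel h2)))
    · rw [not_nonempty_iff] at hne
      rw [Nat.card_of_isEmpty]
      exact Nat.zero_le _
  haveI : Fintype {p : (G ⧸ N) × (G ⧸ N) // p.1 ^ f = 1 ∧ Commute p.1 p.2} := Fintype.ofFinite _
  calc Nat.card {p : G × G // p.1 ^ f = 1 ∧ Commute p.1 p.2}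
      = Nat.card (Σ q, {p // Φ p = q}) := (Nat.card_congr (Equiv.sigmaFiberEquiv Φ)).symm
    _ = ∑ q, Nat.card {p // Φ p = q} := Nat.card_sigma
    _ ≤ ∑ _q : {p : (G ⧸ N) × (G ⧸ N) // p.1 ^ f = 1 ∧ Commute p.1 p.2}, Nat.card N * kN :=
        Finset.sum_le_sum fun q _ => hfib q
    _ = Nat.card G * (kN * kQ) := by
      rw [Finset.sum_const, smul_eq_mul, Finset.card_univ, ← Nat.card_eq_fintype_card, hQc,
        ← N.card_mul_index, Subgroup.index]
      ring

end Cfsg.Agent.ClassCount
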