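import Cfsg.Agent.S0016
import Mathlib.GroupTheory.Transfer
import Mathlib.GroupTheory.PGroup

/-!
# Semiregular automorphism groups of an abelian group modulo a fixed subgroup

`X ≤ MulAut A` fixes `Z` and no other point. If `A` has `r`- and `s`-elements outside `Z` then
`X` cannot contain nontrivial elements of both `r`-power and `s`-power order.
-/

set_option autoImplicit false

namespace Cfsg.Agent.ClassCount

open Subgroup

/-- The standing hypothesis. -/
structure Semiregular {A : Type*} [CommGroup A] (Z : Subgroup A) (X : Subgroup (MulAut A)) : Prop where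
  fix : ∀ σ ∈ X, ∀ z ∈ Z, σ z = z
  free : ∀ σ ∈ X, ∀ a : A, a ∉ Z → σ a = a → σ = 1

variable {A : Type*} [CommGroup A] [Finite A] {Z : Subgroup A}

/-- `A` has an `r`-element outside `Z`. -/
def HasPart (Z : Subgroup A) (r : ℕ) : Prop := ∃ a : A, a ∉ Z ∧ ∃ k, a ^ r ^ k = 1

theorem pow_notMem {a : A} (ha : a ∉ Z) {r : ℕ} (hk : ∃ k, a ^ r ^ k = 1) {n : ℕ} (hn : n.Coprime r) :
    a ^ n ∉ Z := by
  obtain ⟨k, hk⟩ := hk
  intro hc
  obtain ⟨m, hm⟩ := exists_pow_eq_self_of_coprime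
    ((hn.pow_right k).coprime_dvd_right (orderOf_dvd_of_pow_eq_one hk))
  exact ha (hm ▸ Z.pow_mem hc m)

variable {X : Subgroup (MulAut A)} (h : Semiregular Z X)
include h

theorem Semiregular.mono {Y : Subgroup (MulAut A)} (hle : Y ≤ X) : Semiregular Z Y :=
  ⟨fun σ hσ => h.fix σ (hle hσ), fun σ hσ => h.free σ (hle hσ)⟩

omit [Finite A] in
theorem Semiregular.pow_apply {σ : MulAut A} (hσ : σ ∈ X) {a z : A} (hz : z ∈ Z) (ha : σ a = z * a) :
    ∀ i : ℕ, (σ ^ i) a = z ^ i * a := by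
  intro i
  induction i with
  | zero => simp
  | succ i ih =>
    rw [pow_succ', MulAut.mul_apply, ih, map_mul, h.fix σ hσ _ (Z.pow_mem hz i), ha, pow_succ, mul_assoc]

/-- An element of order prime to `r` fixing an `r`-element modulo `Z` is trivial. -/
theorem Semiregular.eq_one_of_fix {σ : MulAut A} (hσ : σ ∈ X) {r : ℕ} (hco : (orderOf σ).Coprime r)
    {a : A} (ha : a ∉ Z) (hk : ∃ k, a ^ r ^ k = 1) (hfix : σ a * a⁻¹ ∈ Z) : σ = 1 := by
  obtain ⟨k, hk⟩ := hk
  set z := σ a * a⁻¹ with hz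
  have h1 := h.pow_apply hσ hfix (a := a) (by rw [hz, inv_mul_cancel_right]) (orderOf σ)
  rw [pow_orderOf_eq_one, MulAut.one_apply, eq_comm, mul_eq_right] at h1
  have h2 : z ^ r ^ k = 1 := by rw [hz, mul_pow, inv_pow, ← map_pow, hk, map_one, inv_one, mul_one]
  have h3 := (pow_gcd_eq_one (m := orderOf σ) (n := r ^ k)).2 ⟨h1, h2⟩
  rw [hco.pow_right k, pow_one] at h3
  exact h.free σ hσ a ha (by rwa [hz, mul_inv_eq_one] at h3)

/-- No element of `r`-power order normalises a nontrivial subgroup of order prime to `r`. -/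
theorem Semiregular.no_normalized {r : ℕ} [Fact r.Prime] (hA : HasPart Z r) {g : MulAut A} (hg : g ∈ X)
    (hg1 : g ≠ 1) (hgr : ∃ k, g ^ r ^ k = 1) {D : Subgroup (MulAut A)} (hD : D ≤ X) (hD1 : D ≠ ⊥)
    (hco : (Nat.card D).Coprime r) (hn : ∀ d ∈ D, g * d * g⁻¹ ∈ D) : False := by
  classical
  haveI : Finite (MulAut A) := Finite.of_injective (fun σ : MulAut A => (σ : A → A)) DFunLike.coe_injective
  haveI : Fintype D := Fintype.ofFinite D
  let ν : A →* A := ∏ d : D, (d : MulAut A).toMonoidHom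
  have hν : ∀ a, ν a = ∏ d : D, (d : MulAut A) a := fun a => by simp [ν, MonoidHom.finsetProd_apply]
  have hνZ : ∀ a, ν a ∈ Z := by
    intro a
    obtain ⟨⟨d0, hd0⟩, hd01⟩ := (D.ne_bot_iff_exists_ne_one).1 hD1
    by_contra hne
    refine hd01 (Subtype.ext (h.free d0 (hD hd0) _ hne ?_))
    rw [hν, map_prod]
    exact Fintype.prod_equiv (Equiv.mulLeft (⟨d0, hd0⟩ : D)) _ _ fun d => by simp [MulAut.mul_apply]
  have hgν : ∀ a, ν (g a) = g (ν a) := by
    intro a
    rw [hν, hν, map_prod]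
    let e : D ≃ D := Equiv.ofBijective (fun d => ⟨g * d * g⁻¹, hn d d.2⟩)
      (Finite.injective_iff_bijective.1 fun d d' hdd => Subtype.ext (by simpa using hdd))
    refine (Fintype.prod_equiv e _ _ fun d => ?_).symm
    show g ((d : MulAut A) a) = (g * (d : MulAut A) * g⁻¹) (g a)
    simp [MulAut.mul_apply]
  obtain ⟨k, hk⟩ := hgr
  set K := (Nat.card A).factorization r with hK
  let W : Subgroup A := (powMonoidHom (r ^ K)).ker ⊓ ν.ker
  have hWp : IsPGroup r W := fun w => ⟨K, Subtype.ext (by simpa using w.2.1)⟩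
  have hWZ : ∀ w ∈ W, w ∈ Z → w = 1 := by
    intro w hw hwZ
    have h1 : w ^ r ^ K = 1 := by simpa using hw.1
    have h2 : w ^ Nat.card D = 1 := by
      have h3 : ν w = 1 := hw.2
      rwa [hν, Finset.prod_congr rfl fun (d : D) _ => h.fix (d : MulAut A) (hD d.2) w hwZ, Finset.prod_const,
        Finset.card_univ, ← Nat.card_eq_fintype_card] at h3
    have h3 := (pow_gcd_eq_one (m := Nat.card D) (n := r ^ K)).2 ⟨h2, h1⟩
    rwa [hco.pow_right K, pow_one] at h3
  obtain ⟨a, ha, ka, hka⟩ := hA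
  have haK : a ^ r ^ K = 1 := by
    apply orderOf_dvd_iff_pow_eq_one.1
    obtain ⟨i, -, hi⟩ := (Nat.dvd_prime_pow Fact.out).1 (orderOf_dvd_of_pow_eq_one hka)
    rw [hi]
    exact Nat.pow_dvd_pow r (((Fact.out : r.Prime).pow_dvd_iff_le_factorization Nat.card_pos.ne').1
      (hi ▸ orderOf_dvd_natCard a))
  set w0 := a ^ Nat.card D * (ν a)⁻¹ with hw0
  have hw0W : w0 ∈ W := by
    refine ⟨?_, ?_⟩
    · show w0 ^ r ^ K = 1
      rw [hw0, mul_pow, inv_pow, ← pow_mul, mul_comm (Nat.card D), pow_mul, haK, one_pow, ← map_pow, haK,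
        map_one, inv_one, mul_one]
    · show ν w0 = 1
      rw [hw0, map_mul, map_inv, map_pow, hν (ν a),
        Finset.prod_congr rfl fun (d : D) _ => h.fix (d : MulAut A) (hD d.2) _ (hνZ a), Finset.prod_const,
        Finset.card_univ, ← Nat.card_eq_fintype_card, mul_inv_cancel]
  have hw0Z : w0 ∉ Z := fun hc => pow_notMem ha ⟨ka, hka⟩ hco (by
    have := Z.mul_mem hc (hνZ a)
    rwa [hw0, inv_mul_cancel_right] at this)
  have hgW : ∀ j : ℕ, ∀ w ∈ W, (g ^ j) w ∈ W := by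
    intro j w hw
    induction j with
    | zero => simpa using hw
    | succ j ih =>
      rw [pow_succ', MulAut.mul_apply]
      refine ⟨?_, ?_⟩
      · show g _ ^ r ^ K = 1
        rw [← map_pow, show ((g ^ j) w) ^ r ^ K = 1 from ih.1, map_one]
      · show ν (g _) = 1
        rw [hgν, show ν ((g ^ j) w) = 1 from ih.2, map_one]
  have hzW : ∀ σ : zpowers g, ∀ w ∈ W, (σ : MulAut A) w ∈ W := by
    rintro ⟨σ, hσ⟩ w hw
    rw [← mem_powers_iff_mem_zpowers] at hσ
    obtain ⟨j, rfl⟩ := hσ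
    exact hgW j w hw
  letI : MulAction (zpowers g) W :=
    { smul := fun σ w => ⟨(σ : MulAut A) w, hzW σ w w.2⟩
      one_smul := fun w => Subtype.ext rfl
      mul_smul := fun σ τ w => Subtype.ext rfl }
  have hgp : IsPGroup r (zpowers g) := IsPGroup.of_card_dvd_pow (n := k) (by
    rw [Nat.card_zpowers]; exact orderOf_dvd_of_pow_eq_one hk)
  have hdvd : r ∣ Nat.card W := by
    obtain ⟨i, hi⟩ := IsPGroup.iff_card.1 hWp
    rw [hi]
    refine dvd_pow_self r ?_
    rintro rfl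
    rw [pow_zero, Subgroup.card_eq_one] at hi
    exact hw0Z (mem_bot.1 (hi ▸ hw0W) ▸ one_mem _)
  obtain ⟨b, hb, hb1⟩ := hgp.exists_fixed_point_of_prime_dvd_card_of_fixed_point W hdvd
    (a := (1 : W)) fun σ => Subtype.ext (map_one (σ : MulAut A))
  have hbZ : (b : A) ∉ Z := fun hc => hb1 (Subtype.ext (hWZ b b.2 hc)).symm
  exact hg1 (h.free g hg b hbZ (congrArg Subtype.val (hb ⟨g, mem_zpowers g⟩)))

omit h in
theorem exists_pow_eq_one_of_pGroup {r : ℕ} {P : Subgroup (MulAut A)} (hP : IsPGroup r P) {g : MulAut A}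
    (hg : g ∈ P) : ∃ k, g ^ r ^ k = 1 := by
  obtain ⟨k, hk⟩ := hP ⟨g, hg⟩
  exact ⟨k, congrArg Subtype.val hk⟩

/-- A normal subgroup of order prime to `r` is trivial. -/
theorem Semiregular.normal_eq_bot {r : ℕ} [Fact r.Prime] (hA : HasPart Z r)
    (hX : ∃ g ∈ X, g ≠ 1 ∧ ∃ k, g ^ r ^ k = 1) {D : Subgroup (MulAut A)} (hD : D ≤ X)
    (hn : ∀ x ∈ X, ∀ d ∈ D, x * d * x⁻¹ ∈ D) (hco : (Nat.card D).Coprime r) : D = ⊥ := by
  by_contra hD1
  obtain ⟨g, hg, hg1, hgr⟩ := hX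
  exact h.no_normalized hA hg hg1 hgr hD hD1 hco (hn g hg)

/-- No noncyclic subgroup of type `(l, l)` when `A` has a part prime to `l`. -/
theorem Semiregular.no_elementary {l r : ℕ} (hl : l.Prime) (hlr : l.Coprime r) (hA : HasPart Z r)
    {a b : MulAut A} (ha : a ∈ X) (hb : b ∈ X) (hal : a ^ l = 1) (hbl : b ^ l = 1) (hb1 : b ≠ 1)
    (hab : Commute a b) : a ∈ zpowers b := by
  classical
  by_contra hna
  obtain ⟨w, hw, hwr⟩ := hA
  apply pow_notMem hw hwr hlr
  have hcyc : ∀ c ∈ X, c ≠ 1 → c ^ l = 1 → ∀ x : A, (∏ i ∈ Finset.range l, (c ^ i) x) ∈ Z := by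
    intro c hc hc1 hcl x
    by_contra hne
    refine hc1 (h.free c hc _ hne ?_)
    rw [map_prod]
    have h1 := (Finset.prod_range_succ' (fun i => (c ^ i) x) l).symm.trans (Finset.prod_range_succ _ l)
    rw [hcl, MulAut.one_apply, pow_zero, MulAut.one_apply] at h1
    rw [← mul_right_cancel h1]
    exact Finset.prod_congr rfl fun i _ => by rw [pow_succ', MulAut.mul_apply]
  have hrow : ∀ j, (∏ i ∈ Finset.range l, ((a * b ^ j) ^ i) w) ∈ Z := fun j => by
    refine hcyc _ (mul_mem ha (pow_mem hb j)) (fun e => hna ?_) ?_ w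
    · rw [eq_inv_of_mul_eq_one_left e]; exact inv_mem (pow_mem (mem_zpowers b) j)
    · rw [(hab.pow_right j).mul_pow, hal, ← pow_mul, mul_comm j, pow_mul, hbl, one_pow, one_mul]
  have htot := Z.prod_mem (t := Finset.range l) fun j (_ : j ∈ Finset.range l) => hrow j
  rw [Finset.prod_comm] at htot
  obtain ⟨n, rfl⟩ : ∃ n, l = n + 1 := ⟨l - 1, (Nat.succ_pred_eq_of_pos hl.pos).symm⟩
  rw [Finset.prod_range_succ'] at htot
  have hrest : (∏ i ∈ Finset.range n, ∏ j ∈ Finset.range (n + 1), ((a * b ^ j) ^ (i + 1)) w) ∈ Z := by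
    refine Z.prod_mem fun i hi => ?_
    have hbi : b ^ (i + 1) ≠ 1 := by
      intro e
      haveI := Fact.mk hl
      have h1 := orderOf_dvd_of_pow_eq_one e
      rw [orderOf_eq_prime hbl hb1] at h1
      have h2 := Nat.le_of_dvd (by omega) h1
      have h3 := Finset.mem_range.1 hi
      omega
    have heq : (∏ j ∈ Finset.range (n + 1), ((a * b ^ j) ^ (i + 1)) w) =
        (a ^ (i + 1)) (∏ j ∈ Finset.range (n + 1), ((b ^ (i + 1)) ^ j) w) := by
      rw [map_prod]
      refine Finset.prod_congr rfl fun j _ => ?_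
      rw [(hab.pow_right j).mul_pow, ← pow_mul, mul_comm j, pow_mul, MulAut.mul_apply]
    rw [heq]
    have hz := hcyc (b ^ (i + 1)) (pow_mem hb _) hbi
      (by rw [← pow_mul, mul_comm, pow_mul, hbl, one_pow]) w
    rwa [h.fix _ (pow_mem ha _) _ hz]
  have hlast := (Z.mul_mem_cancel_left hrest).1 htot
  simpa using hlast

theorem Semiregular.false_of_even {r s : ℕ} [Fact r.Prime] [Fact s.Prime] (hrs : r ≠ s) (hr2 : r ≠ 2)
    (hAr : HasPart Z r) (hAs : HasPart Z s) (hXr : ∃ g ∈ X, g ≠ 1 ∧ ∃ k, g ^ r ^ k = 1)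
    (hXs : ∃ g ∈ X, g ≠ 1 ∧ ∃ k, g ^ s ^ k = 1) (heven : 2 ∣ Nat.card X) : False := by
  classical
  haveI : Finite (MulAut A) := Finite.of_injective (fun σ : MulAut A => (σ : A → A)) DFunLike.coe_injective
  haveI : Fact (Nat.Prime 2) := ⟨Nat.prime_two⟩
  have hco2 : Nat.Coprime 2 r := (Nat.coprime_primes Nat.prime_two Fact.out).2 (Ne.symm hr2)
  have hcors : Nat.Coprime r s := (Nat.coprime_primes Fact.out Fact.out).2 hrs
  -- involutions invert the `r`-part modulo `Z`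
  have hinv : ∀ j ∈ X, j ≠ 1 → j ^ 2 = 1 → ∀ a : A, a * j a ∈ Z := by
    intro j hj hj1 hj2 a
    by_contra hne
    refine hj1 (h.free j hj _ hne ?_)
    rw [map_mul, show j (j a) = a by rw [← MulAut.mul_apply, ← pow_two, hj2, MulAut.one_apply], mul_comm]
  -- the elements fixing the `r`-part modulo `Z`
  let K : Subgroup (MulAut A) :=
    { carrier := {σ | σ ∈ X ∧ ∀ a : A, (∃ k, a ^ r ^ k = 1) → σ a * a⁻¹ ∈ Z}
      one_mem' := ⟨X.one_mem, fun a _ => by simp⟩
      mul_mem' := fun {σ τ} hσ hτ => ⟨X.mul_mem hσ.1 hτ.1, fun a ha => by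
        obtain ⟨k, hk⟩ := ha
        have h1 := hτ.2 a ⟨k, hk⟩
        have h2 := hσ.2 a ⟨k, hk⟩
        have e : σ (τ a) = σ (τ a * a⁻¹) * σ a := by rw [← map_mul, inv_mul_cancel_right]
        rw [MulAut.mul_apply, e, h.fix σ hσ.1 _ h1, mul_assoc]
        exact Z.mul_mem h1 h2⟩
      inv_mem' := fun {σ} hσ => ⟨X.inv_mem hσ.1, fun a ha => by
        obtain ⟨k, hk⟩ := ha
        have hb : (σ⁻¹ a) ^ r ^ k = 1 := by rw [← map_pow, hk, map_one]
        have h1 := hσ.2 (σ⁻¹ a) ⟨k, hb⟩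
        rw [show σ (σ⁻¹ a) = a from σ.apply_symm_apply a] at h1
        simpa using Z.inv_mem h1⟩ }
  have hKs : (Nat.card K).Coprime s := by
    obtain ⟨a, ha, hka⟩ := hAr
    refine (((Fact.out : s.Prime).coprime_iff_not_dvd).2 fun hd => ?_).symm
    obtain ⟨σ, hσ⟩ := exists_prime_orderOf_dvd_card' (G := K) s hd
    have h1 := h.eq_one_of_fix σ.2.1 (r := r) (by rw [orderOf_coe, hσ]; exact hcors.symm) ha hka (σ.2.2 a hka)
    rw [← orderOf_coe, h1, orderOf_one] at hσ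
    exact (Fact.out : s.Prime).one_lt.ne hσ
  have hK : K = ⊥ := h.normal_eq_bot hAs hXs (fun σ hσ => hσ.1) (fun x hx d hd => by
    refine ⟨X.mul_mem (X.mul_mem hx hd.1) (X.inv_mem hx), fun a ha => ?_⟩
    obtain ⟨k, hk⟩ := ha
    have h1 := hd.2 (x⁻¹ a) ⟨k, by rw [← map_pow, hk, map_one]⟩
    have h2 := h.fix x hx _ h1
    have h3 : x (d (x⁻¹ a) * (x⁻¹ a)⁻¹) = (x * d * x⁻¹) a * a⁻¹ := by
      rw [map_mul, map_inv, show x (x⁻¹ a) = a from x.apply_symm_apply a]; rfl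
    rw [← h3, h2]
    exact h1) hKs
  obtain ⟨⟨j, hj⟩, hjo⟩ := exists_prime_orderOf_dvd_card' (G := X) 2 heven
  rw [orderOf_mk] at hjo
  have hj1 : j ≠ 1 := fun e => by rw [e, orderOf_one] at hjo; omega
  have hj2 : j ^ 2 = 1 := hjo ▸ pow_orderOf_eq_one j
  have huniq : ∀ i ∈ X, i ≠ 1 → i ^ 2 = 1 → i * j = 1 := by
    intro i hi hi1 hi2
    rw [← mem_bot, ← hK]
    refine ⟨X.mul_mem hi hj, fun a _ => ?_⟩
    have h1 := hinv j hj hj1 hj2 a
    have h2 := hinv i hi hi1 hi2 a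
    have h3 : i (j a) = i (a * j a) * (i a)⁻¹ := by rw [map_mul, mul_comm (i a), mul_inv_cancel_right]
    rw [MulAut.mul_apply, h3, h.fix i hi _ h1, mul_assoc, ← mul_inv_rev]
    exact Z.mul_mem h1 (Z.inv_mem h2)
  have hbot : zpowers j = ⊥ := h.normal_eq_bot hAr hXr (zpowers_le.2 hj) (fun x hx d hd => by
    have he : x * j * x⁻¹ = j := by
      have h1 := huniq (x * j * x⁻¹) (X.mul_mem (X.mul_mem hx hj) (X.inv_mem hx))
        (fun e => hj1 (conj_eq_one_iff.1 e)) (by rw [conj_pow, hj2, mul_one, mul_inv_cancel])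
      have h2 := huniq j hj hj1 hj2
      exact mul_right_cancel (h1.trans h2.symm)
    obtain ⟨i, rfl⟩ := mem_zpowers_iff.1 hd
    rw [← conj_zpow, he]
    exact zpow_mem (mem_zpowers j) i) (by rw [Nat.card_zpowers, hjo]; exact hco2)
  exact hj1 (mem_bot.1 (hbot ▸ mem_zpowers j))

omit h in
/-- The main conclusion. -/
theorem Semiregular.false_of_two_primes {r s : ℕ} [Fact r.Prime] [Fact s.Prime] (hrs : r ≠ s)
    (hAr : HasPart Z r) (hAs : HasPart Z s) :
    ∀ (n : ℕ) (X : Subgroup (MulAut A)), Nat.card X = n → Semiregular Z X →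
      (∃ g ∈ X, g ≠ 1 ∧ ∃ k, g ^ r ^ k = 1) → (∃ g ∈ X, g ≠ 1 ∧ ∃ k, g ^ s ^ k = 1) → False := by
  classical
  haveI : Finite (MulAut A) := Finite.of_injective (fun σ : MulAut A => (σ : A → A)) DFunLike.coe_injective
  intro n
  induction n using Nat.strong_induction_on with
  | _ n ih =>
  intro X hn h hXr hXs
  by_cases heven : 2 ∣ Nat.card X
  · by_cases hr2 : r = 2
    · exact h.false_of_even hrs.symm (fun e => hrs (hr2.trans e.symm)) hAs hAr hXs hXr heven
    · exact h.false_of_even hrs hr2 hAr hAs hXr hXs heven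
  have hne1 : Nat.card X ≠ 1 := by
    obtain ⟨g, hg, hg1, -⟩ := hXr
    exact fun e => hg1 (mem_bot.1 ((card_eq_one.1 e) ▸ hg))
  set l := (Nat.card X).minFac with hl
  haveI hlf : Fact l.Prime := ⟨Nat.minFac_prime hne1⟩
  have hl2 : l ≠ 2 := fun e => heven (e ▸ Nat.minFac_dvd _)
  obtain ⟨P⟩ : Nonempty (Sylow l X) := inferInstance
  -- cyclic Sylow subgroup
  obtain ⟨t, htl, hAt⟩ : ∃ t, l.Coprime t ∧ HasPart Z t := by
    by_cases hlr : l = r
    · exact ⟨s, (Nat.coprime_primes hlf.out Fact.out).2 (fun e => hrs (hlr.symm.trans e)), hAs⟩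
    · exact ⟨r, (Nat.coprime_primes hlf.out Fact.out).2 hlr, hAr⟩
  haveI hP : IsCyclic P := by
    refine (S0016.result l P.2 fun H K hH hK => ?_).resolve_right fun e => hl2 e.1
    have key : ∀ H : Subgroup P, Nat.card H = l → ∀ c : P, c ∈ center P → orderOf c = l →
        H = zpowers c := by
      intro H hH c hc hco
      symm
      refine eq_of_le_of_card_ge (fun x hx => ?_) (hH.le.trans (hco.symm.le.trans (Nat.card_zpowers c).ge))
      obtain ⟨i, rfl⟩ := mem_zpowers_iff.1 hx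
      refine H.zpow_mem ?_ i
      obtain ⟨⟨a, haH⟩, hao⟩ := exists_prime_orderOf_dvd_card' (G := H) l (dvd_of_eq hH.symm)
      rw [orderOf_mk] at hao
      have hco' : orderOf (((a : X) : MulAut A)) = l := by rw [orderOf_coe, orderOf_coe, hao]
      have hm := h.no_elementary (l := l) hlf.out htl hAt (a := ((c : X) : MulAut A))
        (b := ((a : X) : MulAut A)) (c : X).2 (a : X).2
        (by have h1 := pow_orderOf_eq_one ((c : X) : MulAut A); rwa [orderOf_coe, orderOf_coe, hco] at h1)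
        (by have h1 := pow_orderOf_eq_one ((a : X) : MulAut A); rwa [hco'] at h1)
        (fun e => hlf.out.one_lt.ne (by rw [← hco', e, orderOf_one]))
        (congrArg (fun y : P => ((y : X) : MulAut A)) (mem_center_iff.1 hc a)).symm
      obtain ⟨i, hi⟩ := mem_zpowers_iff.1 hm
      have : a ^ i = c := Subtype.ext (Subtype.ext (by simpa using hi))
      exact this ▸ H.zpow_mem haH i
    haveI : Nontrivial P := by
      refine Finite.one_lt_card_iff_nontrivial.1 (lt_of_lt_of_le hlf.out.one_lt ?_)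
      exact hH.ge.trans (card_le_card_group H)
    haveI : Nontrivial (center P) := (nontrivial_iff_ne_bot _).2 P.2.bot_lt_center.ne'
    obtain ⟨⟨c, hc⟩, hco⟩ := exists_prime_orderOf_dvd_card' (G := center P) l (by
      obtain ⟨j, hj⟩ := IsPGroup.iff_card.mp (P.2.to_subgroup (center P))
      rw [hj]
      refine dvd_pow_self l ?_
      rintro rfl
      exact (Finite.one_lt_card (α := center P)).ne' (by rw [hj, pow_zero]))
    rw [orderOf_mk] at hco
    rw [key H hH c hc hco, key K hK c hc hco]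
  -- the normal complement
  have hNC := IsCyclic.normalizer_le_centralizer (P := P) hl.symm hP
  obtain ⟨L, hLnorm, hc⟩ : ∃ L : Subgroup X, L.Normal ∧ IsComplement' L P :=
    ⟨_, MonoidHom.normal_ker _, MonoidHom.ker_transferSylow_isComplement' P hNC⟩
  haveI := hLnorm
  let L' := L.map X.subtype
  have hL'X : L' ≤ X := map_subtype_le L
  have hLc : Nat.card L' = (P : Subgroup X).index := by
    rw [hc.index_eq_card]; exact card_map_of_injective X.subtype_injective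
  have hLl : (Nat.card L').Coprime l := by
    rw [hLc]; exact (hlf.out.coprime_iff_not_dvd.2 P.not_dvd_index).symm
  have hLn : ∀ x ∈ X, ∀ d ∈ L', x * d * x⁻¹ ∈ L' := by
    rintro x hx _ ⟨d, hd, rfl⟩
    exact ⟨(⟨x, hx⟩ : X) * d * (⟨x, hx⟩ : X)⁻¹, hLnorm.conj_mem d hd _, rfl⟩
  have hmem : ∀ (t : ℕ) [Fact t.Prime], t ≠ l → ∀ g ∈ X, (∃ k, g ^ t ^ k = 1) → g ∈ L' := by
    rintro t _ htl g hg ⟨k, hk⟩
    refine ⟨⟨g, hg⟩, ?_, rfl⟩
    have h1 : orderOf (QuotientGroup.mk' L ⟨g, hg⟩) ∣ t ^ k := by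
      apply orderOf_dvd_of_pow_eq_one
      rw [← map_pow, show (⟨g, hg⟩ : X) ^ t ^ k = 1 from Subtype.ext hk, map_one]
    obtain ⟨m, hm⟩ := IsPGroup.iff_card.1 P.2
    have h2 : orderOf (QuotientGroup.mk' L ⟨g, hg⟩) ∣ l ^ m := by
      rw [← hm, ← hc.symm.index_eq_card]; exact orderOf_dvd_natCard _
    have h3 := Nat.dvd_gcd h1 h2
    rw [Nat.Coprime.pow k m ((Nat.coprime_primes (Fact.out : t.Prime) hlf.out).2 htl),
      Nat.dvd_one, orderOf_eq_one_iff] at h3
    exact (QuotientGroup.eq_one_iff _).1 h3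
  obtain ⟨g, hg, hg1, hgr⟩ := hXr
  obtain ⟨u, hu, hu1, hus⟩ := hXs
  by_cases hlr : r = l
  · have := h.normal_eq_bot hAr ⟨g, hg, hg1, hgr⟩ hL'X hLn (hlr ▸ hLl)
    exact hu1 (mem_bot.1 (this ▸ hmem s (fun e => hrs (hlr.trans e.symm)) u hu hus))
  by_cases hls : s = l
  · have := h.normal_eq_bot hAs ⟨u, hu, hu1, hus⟩ hL'X hLn (hls ▸ hLl)
    exact hg1 (mem_bot.1 (this ▸ hmem r hlr g hg hgr))
  refine ih (Nat.card L') ?_ L' rfl (h.mono hL'X) ⟨g, hmem r hlr g hg hgr, hg1, hgr⟩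
    ⟨u, hmem s hls u hu hus, hu1, hus⟩
  rw [← hn]
  refine lt_of_le_of_ne (Nat.le_of_dvd Nat.card_pos (card_dvd_of_le hL'X)) fun e => ?_
  rw [e] at hLl
  exact hlf.out.coprime_iff_not_dvd.1 hLl.symm (Nat.minFac_dvd _)

end Cfsg.Agent.ClassCount
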